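import Groth.Agent.FinHopf.LocalDim

/-!
Finite commutative Hopf algebras over an algebraically closed field: decomposition at the
rational points, the rank kills the group, and étaleness when the rank is invertible.
-/

namespace Groth.Agent.FinHopf

open TensorProduct Module WithConv Coalgebra

universe u v

variable {k : Type u} [Field k] {A : Type v} [CommRing A] [HopfAlgebra k A]

/-- translation by a point -/
noncomputable def transl (g : WithConv (A →ₐ[k] k)) : A →ₐ[k] A :=
  (toConv ((Algebra.ofId k A).comp g.ofConv) * toConv (AlgHom.id k A)).ofConv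

lemma comp_ofId (h : WithConv (A →ₐ[k] k)) {B : Type*} [CommRing B] [Algebra k B] (f : A →ₐ[k] B) :
    f.comp ((Algebra.ofId k A).comp h.ofConv) = (Algebra.ofId k B).comp h.ofConv := by
  ext a; simp

lemma ofId_self_comp (f : A →ₐ[k] k) : (Algebra.ofId k k).comp f = f := by ext a; simp

lemma eps_comp_transl (g : WithConv (A →ₐ[k] k)) :
    (Bialgebra.counitAlgHom k A).comp (transl g) = g.ofConv := by
  have hone : toConv (Bialgebra.counitAlgHom k A) = (1 : WithConv (A →ₐ[k] k)) := by
    apply WithConv.ofConv_injective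
    ext a; simp
  rw [transl, AlgHom.comp_convMul_distrib, comp_ofId, AlgHom.comp_id, ofId_self_comp, hone, mul_one]

lemma ofId_mul (g h : WithConv (A →ₐ[k] k)) :
    toConv ((Algebra.ofId k A).comp (g * h).ofConv)
      = toConv ((Algebra.ofId k A).comp g.ofConv) * toConv ((Algebra.ofId k A).comp h.ofConv) := by
  rw [AlgHom.comp_convMul_distrib]

lemma transl_comp (g h : WithConv (A →ₐ[k] k)) : (transl g).comp (transl h) = transl (h * g) := by
  conv_lhs => rw [transl.eq_def h, AlgHom.comp_convMul_distrib, comp_ofId, AlgHom.comp_id]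
  conv_rhs => rw [transl.eq_def (h * g), ofId_mul, mul_assoc]
  rfl

lemma transl_one : transl (1 : WithConv (A →ₐ[k] k)) = AlgHom.id k A := by
  rw [transl]
  have : toConv ((Algebra.ofId k A).comp (1 : WithConv (A →ₐ[k] k)).ofConv) = 1 := by
    apply WithConv.ofConv_injective
    ext a; simp
  rw [this, one_mul]

/-- translation as an automorphism -/
noncomputable def translEquiv (g : WithConv (A →ₐ[k] k)) : A ≃ₐ[k] A :=
  AlgEquiv.ofAlgHom (transl g) (transl g⁻¹) (by rw [transl_comp, inv_mul_cancel, transl_one])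
    (by rw [transl_comp, mul_inv_cancel, transl_one])

variable [Module.Finite k A]

/-- The decomposition data at the identity point. -/
structure Decomp (k : Type u) [Field k] (A : Type v) [CommRing A] [HopfAlgebra k A] where
  /-- exponent -/
  t : ℕ
  /-- idempotent supported away from the identity -/
  e : A
  idem : IsIdempotentElem e
  eps_e : counit (R := k) e = 0
  span : RingHom.ker (Bialgebra.counitAlgHom k A) ^ t = Ideal.span {e}
  nil : ∀ x, counit (R := k) x = 0 → ∃ m : ℕ, x ^ m ∈ Ideal.span {e}
  pts : Finite (WithConv (A →ₐ[k] k))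
  dim : finrank k A = Nat.card (WithConv (A →ₐ[k] k)) * finrank k (A ⧸ Ideal.span {e})
  detect : ∀ x : A, (∀ g : A →ₐ[k] k, g x = 0) → IsNilpotent x

lemma isReduced_of_finrank_quotient [IsAlgClosed k] (d : Decomp k A)
    (h : finrank k (A ⧸ Ideal.span {d.e}) = 1) :
    Ideal.span {d.e} = RingHom.ker (Bialgebra.counitAlgHom k A) := by
  refine le_antisymm ?_ fun x hx => ?_
  · rw [Ideal.span_le, Set.singleton_subset_iff]
    exact d.eps_e
  haveI : Nontrivial (A ⧸ Ideal.span {d.e}) := Module.nontrivial_of_finrank_eq_succ h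
  obtain ⟨c, hc⟩ := (Subalgebra.bot_eq_top_iff_finrank_eq_one.2 h).ge
    (Algebra.mem_top (R := k) (x := Ideal.Quotient.mk (Ideal.span {d.e}) x))
  have h2 : x - algebraMap k A c ∈ Ideal.span {d.e} := by
    rw [← Ideal.Quotient.eq]
    exact hc.symm.trans (Ideal.Quotient.mk_algebraMap k _ c).symm
  have h3 : c = 0 := by
    obtain ⟨a, ha⟩ := Ideal.mem_span_singleton'.1 h2
    have := congrArg (Bialgebra.counitAlgHom k A) ha
    simp only [map_mul, map_sub, AlgHom.commutes, Bialgebra.counitAlgHom_apply, d.eps_e, mul_zero,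
      Algebra.algebraMap_self, RingHom.id_apply] at this
    rw [RingHom.mem_ker, Bialgebra.counitAlgHom_apply] at hx
    rw [hx, zero_sub] at this
    exact neg_eq_zero.1 this.symm
  simpa [h3] using h2

lemma exists_decomp [IsAlgClosed k] : Nonempty (Decomp k A) := by
  classical
  haveI : IsArtinianRing A := IsArtinianRing.of_finite k A
  haveI : Nontrivial A := (⟨⟨0, 1, fun h => zero_ne_one (α := k) (by
    simpa using congrArg (Bialgebra.counitAlgHom k A) h)⟩⟩ : Nontrivial A)
  -- points and maximal ideals
  let toMax : WithConv (A →ₐ[k] k) → MaximalSpectrum A := fun g =>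
    ⟨RingHom.ker g.ofConv, RingHom.ker_isMaximal_of_surjective g.ofConv
      fun c => ⟨algebraMap k A c, by simp⟩⟩
  have hbij : Function.Bijective toMax := by
    constructor
    · intro g h he
      have he' : RingHom.ker g.ofConv = RingHom.ker h.ofConv := congrArg MaximalSpectrum.asIdeal he
      apply WithConv.ofConv_injective
      ext a
      have : a - algebraMap k A (g.ofConv a) ∈ RingHom.ker g.ofConv := by simp
      rw [he', RingHom.mem_ker, map_sub, AlgHom.commutes, sub_eq_zero] at this
      exact this.symm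
    · rintro ⟨m, hm⟩
      letI := Ideal.Quotient.field m
      have hb : Function.Bijective (algebraMap k (A ⧸ m)) := IsAlgClosed.algebraMap_bijective_of_isIntegral
      refine ⟨toConv ((AlgEquiv.ofBijective (Algebra.ofId k (A ⧸ m)) hb).symm.toAlgHom.comp
        (Ideal.Quotient.mkₐ k m)), ?_⟩
      refine MaximalSpectrum.ext ?_
      ext a
      show (AlgEquiv.ofBijective (Algebra.ofId k (A ⧸ m)) hb).symm (Ideal.Quotient.mk m a) = 0 ↔ _
      rw [AddEquivClass.map_eq_zero_iff, Ideal.Quotient.eq_zero_iff_mem]
  obtain ⟨t0, ht0⟩ := IsArtinianRing.isNilpotent_nilradical (R := A)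
  set t := t0 + 1
  have ht : nilradical A ^ t = ⊥ := by rw [pow_succ, ht0, zero_mul]; rfl
  let Φ : A ≃ₐ[A] ∀ I : MaximalSpectrum A, A ⧸ I.asIdeal ^ t :=
    ((AlgEquiv.quotientBot A A).symm.trans (Ideal.quotientEquivAlgOfEq A ht.symm)).trans
      (IsArtinianRing.quotNilradicalPowEquivPi A t)
  have hΦ : ∀ a I, Φ a I = Ideal.Quotient.mk (I.asIdeal ^ t) a := fun a I => rfl
  set g1 : MaximalSpectrum A := toMax 1
  have hg1 : g1.asIdeal = RingHom.ker (Bialgebra.counitAlgHom k A) := by
    ext a
    show (1 : WithConv (A →ₐ[k] k)).ofConv a = 0 ↔ _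
    simp
  set e : A := Φ.symm (fun I => if I = g1 then 0 else 1)
  have he : ∀ I : MaximalSpectrum A,
      Ideal.Quotient.mk (I.asIdeal ^ t) e = if I = g1 then 0 else 1 := by
    intro I; rw [← hΦ, AlgEquiv.apply_symm_apply]
  have heps : counit (R := k) e = 0 := by
    have h := he g1
    rw [if_pos rfl, Ideal.Quotient.eq_zero_iff_mem] at h
    have := Ideal.pow_le_self (Nat.succ_ne_zero t0) h
    rw [hg1, RingHom.mem_ker] at this
    simpa using this
  have hspan : g1.asIdeal ^ t = Ideal.span {e} := by
    refine le_antisymm (fun a ha => Ideal.mem_span_singleton'.2 ⟨a, ?_⟩) ?_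
    · apply Φ.injective
      funext I
      rw [hΦ, hΦ, map_mul, he]
      by_cases hI : I = g1
      · subst hI; rw [if_pos rfl, mul_zero, Ideal.Quotient.eq_zero_iff_mem.2 ha]
      · rw [if_neg hI, mul_one]
    · rw [Ideal.span_le, Set.singleton_subset_iff, SetLike.mem_coe,
        ← Ideal.Quotient.eq_zero_iff_mem, he, if_pos rfl]
  haveI : Finite (WithConv (A →ₐ[k] k)) := Finite.of_injective toMax hbij.1
  refine ⟨⟨t, e, ?_, heps, hg1 ▸ hspan, ?_, this, ?_, ?_⟩⟩
  · apply Φ.injective
    funext I
    rw [hΦ, hΦ, map_mul, he]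
    split <;> simp
  · intro x hx
    refine ⟨t, hspan ▸ Ideal.pow_mem_pow ?_ t⟩
    rw [hg1, RingHom.mem_ker]
    simpa using hx
  · haveI : Fintype (MaximalSpectrum A) := Fintype.ofFinite _
    have h1 : finrank k A = ∑ I : MaximalSpectrum A, finrank k (A ⧸ I.asIdeal ^ t) := by
      rw [← Module.finrank_pi_fintype]
      exact (Φ.restrictScalars k).toLinearEquiv.finrank_eq
    have h2 : ∀ I : MaximalSpectrum A,
        finrank k (A ⧸ I.asIdeal ^ t) = finrank k (A ⧸ Ideal.span {e}) := by
      intro I
      obtain ⟨g, rfl⟩ := hbij.2 I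
      rw [← hspan, hg1]
      refine (Ideal.quotientEquivAlg _ _ (translEquiv g) ?_).toLinearEquiv.finrank_eq
      rw [Ideal.map_pow]
      congr 1
      have hcomap : (toMax g).asIdeal
          = Ideal.comap (translEquiv g : A →+* A) (RingHom.ker (Bialgebra.counitAlgHom k A)) := by
        ext a
        rw [Ideal.mem_comap, RingHom.mem_ker]
        show g.ofConv a = 0 ↔ Bialgebra.counitAlgHom k A (transl g a) = 0
        rw [← AlgHom.comp_apply, eps_comp_transl]
      rw [hcomap]
      exact (Ideal.map_comap_of_surjective _ (translEquiv g).surjective _).symm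
    rw [h1, Finset.sum_congr rfl (fun I _ => h2 I), Finset.sum_const, Finset.card_univ,
      smul_eq_mul, Nat.card_eq_of_bijective toMax hbij, Nat.card_eq_fintype_card]
  · intro x hx
    refine mem_nilradical.1 ?_
    rw [nilradical_eq_sInf, Ideal.mem_sInf]
    intro P hP
    haveI : P.IsPrime := hP
    haveI : P.IsMaximal := IsArtinianRing.isMaximal_of_isPrime P
    obtain ⟨g, hg⟩ := hbij.2 ⟨P, inferInstance⟩
    rw [← show RingHom.ker g.ofConv = P from congrArg MaximalSpectrum.asIdeal hg, RingHom.mem_ker]
    exact hx _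

variable [IsAlgClosed k]

/-- the datum on the identity component -/
noncomputable def datum (d : Decomp k A) : Datum k (A ⧸ Ideal.span {d.e}) := by
  refine
    { ε := Ideal.Quotient.liftₐ _ (Bialgebra.counitAlgHom k A) ?_
      δ := Ideal.Quotient.liftₐ _ ((Algebra.TensorProduct.map (Ideal.Quotient.mkₐ k _)
        (Ideal.Quotient.mkₐ k _)).comp (Bialgebra.comulAlgHom k A)) ?_
      nil := ?_, hl := ?_, hr := ?_ }
  · intro a ha
    obtain ⟨b, rfl⟩ := Ideal.mem_span_singleton'.1 ha
    simp [d.eps_e]
  · intro a ha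
    obtain ⟨b, rfl⟩ := Ideal.mem_span_singleton'.1 ha
    rw [map_mul]
    have hε : ∀ a ∈ Ideal.span {d.e}, Bialgebra.counitAlgHom k A a = 0 := fun a ha => by
      obtain ⟨b, rfl⟩ := Ideal.mem_span_singleton'.1 ha
      simp [d.eps_e]
    set ε0 := Ideal.Quotient.liftₐ _ (Bialgebra.counitAlgHom k A) hε
    set f := (Algebra.TensorProduct.map (Ideal.Quotient.mkₐ k (Ideal.span {d.e}))
        (Ideal.Quotient.mkₐ k (Ideal.span {d.e}))).comp (Bialgebra.comulAlgHom k A)
    set l : (A ⧸ Ideal.span {d.e}) ⊗[k] (A ⧸ Ideal.span {d.e}) →ₐ[k] k :=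
      Algebra.TensorProduct.lift ε0 ε0 fun _ _ => Commute.all _ _
    have hnil0 : ∀ x, IsNilpotent (x - algebraMap k (A ⧸ Ideal.span {d.e}) (ε0 x)) := by
      intro x
      obtain ⟨a, rfl⟩ := Ideal.Quotient.mk_surjective x
      obtain ⟨m, hm⟩ := d.nil (a - algebraMap k A (counit a)) (by simp)
      refine ⟨m, ?_⟩
      have : ε0 (Ideal.Quotient.mk (Ideal.span {d.e}) a) = counit a := rfl
      rw [this, ← Ideal.Quotient.mk_algebraMap, ← map_sub, ← map_pow]
      exact Ideal.Quotient.eq_zero_iff_mem.2 hm
    have hnil : ∀ u, IsNilpotent (u - algebraMap k _ (l u)) := by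
      intro u
      induction u using TensorProduct.induction_on with
      | zero => simp
      | tmul a b =>
        have h1 : a ⊗ₜ[k] b - algebraMap k _ (l (a ⊗ₜ b))
            = (a - algebraMap k _ (ε0 a)) ⊗ₜ[k] b
              + algebraMap k _ (ε0 a) * ((1 : A ⧸ Ideal.span {d.e}) ⊗ₜ[k] (b - algebraMap k _ (ε0 b))) := by
          simp only [l, Algebra.TensorProduct.lift_tmul, map_mul, sub_tmul, tmul_sub,
            Algebra.TensorProduct.algebraMap_apply, Algebra.TensorProduct.tmul_mul_tmul, mul_one,
            one_mul, Algebra.algebraMap_eq_smul_one, smul_tmul', TensorProduct.tmul_smul,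
            Algebra.smul_mul_assoc, mul_smul_comm, smul_smul, smul_sub, mul_comm]
          abel
        rw [h1]
        refine Commute.isNilpotent_add (Commute.all _ _) ?_ ?_
        · obtain ⟨m, hm⟩ := hnil0 a
          refine ⟨m, ?_⟩
          rw [Algebra.TensorProduct.tmul_pow, hm, zero_tmul]
        · obtain ⟨m, hm⟩ := hnil0 b
          refine Commute.isNilpotent_mul_left (Commute.all _ _) ⟨m, ?_⟩
          rw [Algebra.TensorProduct.tmul_pow, hm, tmul_zero]
      | add x y hx hy =>
        rw [map_add, map_add, add_sub_add_comm]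
        exact Commute.isNilpotent_add (Commute.all _ _) hx hy
    have hlf : l (f d.e) = 0 := by
      have : l.comp f = Bialgebra.counitAlgHom k A := by
        apply AlgHom.toLinearMap_injective
        ext a
        simp only [l, f, AlgHom.toLinearMap_apply, AlgHom.comp_apply, Bialgebra.comulAlgHom_apply,
          Bialgebra.counitAlgHom_apply]
        rw [← (ℛ k a).eq]
        simp only [map_sum, Algebra.TensorProduct.map_tmul, Algebra.TensorProduct.lift_tmul]
        conv_rhs => rw [← sum_counit_smul (ℛ k a), map_sum]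
        refine Finset.sum_congr rfl fun i _ => ?_
        rw [map_smul, smul_eq_mul]
        rfl
      rw [← AlgHom.comp_apply, this]
      simpa using d.eps_e
    have h0 : f d.e = 0 := by
      have hn := hnil (f d.e)
      rw [hlf, map_zero, sub_zero] at hn
      exact IsIdempotentElem.eq_zero_of_isNilpotent (d.idem.map f) hn
    rw [h0, mul_zero]
  · intro x hx
    obtain ⟨a, rfl⟩ := Ideal.Quotient.mk_surjective x
    obtain ⟨m, hm⟩ := d.nil a hx
    exact ⟨m, by rw [← map_pow]; exact Ideal.Quotient.eq_zero_iff_mem.2 hm⟩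
  · intro x
    obtain ⟨a, rfl⟩ := Ideal.Quotient.mk_surjective x
    show evalL _ ((Algebra.TensorProduct.map (Ideal.Quotient.mkₐ k _) (Ideal.Quotient.mkₐ k _))
      (Coalgebra.comul a)) = _
    rw [← (ℛ k a).eq]
    conv_rhs => rw [← sum_counit_smul (ℛ k a), map_sum]
    simp only [map_sum, Algebra.TensorProduct.map_tmul, evalL_tmul]
    refine Finset.sum_congr rfl fun i _ => ?_
    rfl
  · intro x
    obtain ⟨a, rfl⟩ := Ideal.Quotient.mk_surjective x
    show evalR _ ((Algebra.TensorProduct.map (Ideal.Quotient.mkₐ k _) (Ideal.Quotient.mkₐ k _))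
      (Coalgebra.comul a)) = _
    rw [← (ℛ k a).eq]
    have hsum : ∑ i ∈ (ℛ k a).index, counit (R := k) ((ℛ k a).right i) • (ℛ k a).left i = a := by
      have h := congrArg (TensorProduct.rid k A) (sum_tmul_counit_eq (R := k) (ℛ k a))
      rw [map_sum] at h
      simp only [TensorProduct.rid_tmul, one_smul] at h
      exact h
    conv_rhs => rw [← hsum, map_sum]
    simp only [map_sum, Algebra.TensorProduct.map_tmul, evalR_tmul]
    refine Finset.sum_congr rfl fun i _ => ?_
    rfl

/-- powers of the augmentation ideal of a local finite algebra vanish at the dimension -/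
lemma ker_pow_eq_bot {R : Type v} [CommRing R] [Algebra k R] [Module.Finite k R] (d : Datum k R) :
    RingHom.ker d.ε ^ finrank k R = ⊥ := by
  set m : Ideal R := RingHom.ker d.ε
  haveI : IsNoetherianRing R := isNoetherian_of_tower k inferInstance
  obtain ⟨N, hN⟩ : IsNilpotent m :=
    (Ideal.FG.isNilpotent_iff_le_nilradical (IsNoetherian.noetherian m)).2 fun y hy => d.nil y hy
  let f : ℕ → ℕ := fun i => finrank k ((m ^ i).restrictScalars k)
  have key : ∀ i, m ^ i = ⊥ ∨ f i + i ≤ finrank k R := by
    intro i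
    induction i with
    | zero => exact Or.inr (by simpa [f] using Submodule.finrank_le _)
    | succ i ih =>
      by_cases h : m ^ (i + 1) = m ^ i
      · left
        have hstab : ∀ j, m ^ (i + j) = m ^ i := fun j => by
          induction j with
          | zero => rfl
          | succ j hj => rw [← add_assoc, pow_succ, hj, ← pow_succ, h]
        rw [h, ← hstab N, pow_add, hN, mul_zero]
        rfl
      · rcases ih with ih | ih
        · left; rw [pow_succ, ih, Submodule.bot_mul]
        · right
          have hlt : f (i + 1) < f i := by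
            refine Submodule.finrank_lt_finrank_of_lt ?_
            refine lt_of_le_of_ne (fun y hy => Ideal.pow_le_pow_right (Nat.le_succ i) hy) fun he => h ?_
            exact Submodule.restrictScalars_injective k R R he
          omega
  rcases key (finrank k R) with h | h
  · exact h
  · have hf : f (finrank k R) = 0 := by omega
    rw [Submodule.finrank_eq_zero, Submodule.restrictScalars_eq_bot_iff] at hf
    exact hf

lemma smul_range_le {B : Type v} [CommRing B] [Algebra k B] {I J : Ideal B}
    (u w : WithConv (A →ₗ[k] B)) (hu : ∀ a, u a ∈ I) (hw : ∀ a, w a ∈ J) (a : A) :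
    (u * w) a ∈ I * J := by
  rw [(ℛ k a).convMul_apply]
  exact sum_mem fun i _ => Ideal.mul_mem_mul (hu _) (hw _)

lemma pow_range_le {B : Type v} [CommRing B] [Algebra k B] {I : Ideal B}
    (u : WithConv (A →ₗ[k] B)) (hu : ∀ a, u a ∈ I) (n : ℕ) (a : A) : (u ^ n) a ∈ I ^ n := by
  induction n generalizing a with
  | zero => simp
  | succ n ih => rw [pow_succ, pow_succ]; exact smul_range_le _ _ ih hu a

/-- the projection to the identity component has order dividing its dimension -/
lemma mk_pow_eq_one (d : Decomp k A) :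
    (toConv (Ideal.Quotient.mkₐ k (Ideal.span {d.e}))) ^ finrank k (A ⧸ Ideal.span {d.e}) = 1 := by
  set R := A ⧸ Ideal.span {d.e}
  set π := Ideal.Quotient.mkₐ k (Ideal.span {d.e})
  set n := finrank k R
  let P : WithConv (A →ₗ[k] R) := toConv π.toLinearMap
  have hP : ∀ a, (P - 1) a ∈ RingHom.ker (datum d).ε := fun a => by
    rw [RingHom.mem_ker]
    show (datum d).ε (π a - algebraMap k R (counit a)) = 0
    rw [map_sub, AlgHom.commutes, sub_eq_zero]
    rfl
  have hzero : (P - 1) ^ n = 0 := by
    ext a
    have h := pow_range_le (P - 1) hP n a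
    rw [ker_pow_eq_bot, Ideal.mem_bot] at h
    exact h
  have hbin : ∀ i, 0 < i → i < n → (n.choose i : k) = 0 := by
    intro i h0 hi
    rcases CharP.exists' k with hc | ⟨p, hp, hc⟩
    · have := finrank_eq_one_of_charZero (datum d)
      change n = 1 at this
      omega
    · haveI := hp; haveI := hc
      obtain ⟨s, hs⟩ := exists_finrank_eq_pow (datum d) p
      change n = p ^ s at hs
      rw [CharP.cast_eq_zero_iff k p, hs]
      exact hp.out.dvd_choose_pow h0.ne' (by omega)
  have hn : 0 < n := by
    haveI : Nontrivial R := (⟨⟨0, 1, fun h => zero_ne_one (α := k) (by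
      simpa using congrArg (datum d).ε h)⟩⟩ : Nontrivial R)
    exact Module.finrank_pos
  have hPn : P ^ n = 1 := by
    have h := (Commute.one_right (P - 1)).add_pow n
    rw [sub_add_cancel, Finset.sum_eq_single 0] at h
    · simpa using h
    · intro i hi hi0
      rw [one_pow, mul_one]
      rcases lt_or_eq_of_le (Nat.lt_succ_iff.1 (Finset.mem_range.1 hi)) with h' | h'
      · rw [← nsmul_eq_mul', ← Nat.cast_smul_eq_nsmul k, hbin i (Nat.pos_of_ne_zero hi0) h',
          zero_smul]
      · rw [h', hzero, zero_mul]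
    · simp
  apply WithConv.ofConv_injective
  apply AlgHom.toLinearMap_injective
  apply WithConv.toConv_injective
  rw [AlgHom.toLinearMap_convPow, AlgHom.toLinearMap_convOne]
  exact hPn

lemma comp_pow {B C : Type*} [CommRing B] [Algebra k B] [CommRing C] [Algebra k C]
    (h : B →ₐ[k] C) (f : WithConv (A →ₐ[k] B)) (n : ℕ) :
    toConv (h.comp (f ^ n).ofConv) = (toConv (h.comp f.ofConv)) ^ n := by
  induction n with
  | zero =>
    apply WithConv.ofConv_injective
    ext a; simp
  | succ n ih =>
    rw [pow_succ, pow_succ, AlgHom.comp_convMul_distrib, WithConv.toConv_ofConv, ← ih]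

/-- **The rank kills the group (algebraically closed field).** -/
theorem pow_finrank_eq_one_of_isAlgClosed :
    (toConv (AlgHom.id k A)) ^ finrank k A = 1 := by
  obtain ⟨d⟩ := exists_decomp (k := k) (A := A)
  haveI := d.pts
  set N := Nat.card (WithConv (A →ₐ[k] k))
  set f := (toConv (AlgHom.id k A)) ^ N
  have hpts : ∀ g : A →ₐ[k] k, g.comp f.ofConv = Bialgebra.counitAlgHom k A := by
    intro g
    apply WithConv.toConv_injective
    show toConv (g.comp ((toConv (AlgHom.id k A)) ^ N).ofConv) = _
    rw [comp_pow, WithConv.ofConv_toConv, AlgHom.comp_id, pow_card_eq_one']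
    apply WithConv.ofConv_injective
    ext a; simp
  have hfe : f.ofConv d.e = 0 := by
    refine IsIdempotentElem.eq_zero_of_isNilpotent (d.idem.map f.ofConv) (d.detect _ fun g => ?_)
    rw [← AlgHom.comp_apply, hpts]
    simpa using d.eps_e
  have hker : ∀ a ∈ Ideal.span {d.e}, f.ofConv a = 0 := fun a ha => by
    obtain ⟨b, rfl⟩ := Ideal.mem_span_singleton'.1 ha
    rw [map_mul, hfe, mul_zero]
  rw [d.dim, pow_mul]
  have hf : f = toConv ((Ideal.Quotient.liftₐ _ f.ofConv hker).comp
      (toConv (Ideal.Quotient.mkₐ k (Ideal.span {d.e}))).ofConv) := by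
    apply WithConv.ofConv_injective
    ext a; rfl
  rw [show (toConv (AlgHom.id k A)) ^ N = f from rfl, hf, ← comp_pow, mk_pow_eq_one]
  apply WithConv.ofConv_injective
  ext a
  show Ideal.Quotient.liftₐ _ f.ofConv hker (algebraMap k _ (counit a)) = _
  rw [AlgHom.commutes]
  rfl

/-- **Invertible rank gives a reduced algebra (algebraically closed field).** -/
theorem isReduced_of_isAlgClosed (h : (finrank k A : k) ≠ 0) : IsReduced A := by
  obtain ⟨d⟩ := exists_decomp (k := k) (A := A)
  have h0 : (finrank k (A ⧸ Ideal.span {d.e}) : k) ≠ 0 := fun h' => h (by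
    rw [d.dim, Nat.cast_mul, h', mul_zero])
  have h1 : finrank k (A ⧸ Ideal.span {d.e}) = 1 := by
    rcases CharP.exists' k with hc | ⟨p, hp, hc⟩
    · exact finrank_eq_one_of_charZero (datum d)
    · haveI := hp; haveI := hc
      obtain ⟨s, hs⟩ := exists_finrank_eq_pow (datum d) p
      rcases s with _ | s
      · simpa using hs
      · exfalso; apply h0; rw [hs, Nat.cast_pow, CharP.cast_eq_zero, zero_pow (Nat.succ_ne_zero s)]
  have hspan := isReduced_of_finrank_quotient d h1
  refine ⟨fun x hx => ?_⟩
  haveI : IsNoetherianRing A := isNoetherian_of_tower k inferInstance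
  -- every translate of `x` lies in the idempotent ideal
  have hmem : ∀ g : WithConv (A →ₐ[k] k), transl g x * d.e = transl g x := by
    intro g
    have : transl g x ∈ Ideal.span {d.e} := by
      rw [hspan, RingHom.mem_ker]
      exact (hx.map ((Bialgebra.counitAlgHom k A).comp (transl g))).eq_zero
    obtain ⟨b, hb⟩ := Ideal.mem_span_singleton'.1 this
    rw [← hb, mul_assoc, d.idem.eq]
  by_contra hx0
  set ann : Ideal A := (⊥ : Ideal A).colon (Ideal.span {x} : Set A)
  have hne : ann ≠ ⊤ := by
    rw [Ne, Ideal.eq_top_iff_one, Submodule.mem_colon]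
    intro h
    exact hx0 (by simpa using h x (Ideal.mem_span_singleton_self x))
  obtain ⟨P, hP, hle⟩ := Ideal.exists_le_maximal _ hne
  letI := Ideal.Quotient.field P
  have hb : Function.Bijective (algebraMap k (A ⧸ P)) := IsAlgClosed.algebraMap_bijective_of_isIntegral
  let g : WithConv (A →ₐ[k] k) := toConv ((AlgEquiv.ofBijective (Algebra.ofId k (A ⧸ P)) hb).symm.toAlgHom.comp
    (Ideal.Quotient.mkₐ k P))
  -- `1 - τ⁻¹ e` kills `x` and is not in `P`
  set y : A := (translEquiv g).symm d.e
  have hy : (1 - y) * x = 0 := by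
    apply (translEquiv g).injective
    rw [map_mul, map_sub, map_one, map_zero]
    simp only [y, AlgEquiv.apply_symm_apply]
    rw [sub_mul, one_mul, sub_eq_zero, mul_comm]
    exact (hmem g).symm
  have hyP : 1 - y ∈ P := hle (by
    rw [Submodule.mem_colon]
    intro z hz
    obtain ⟨c, rfl⟩ := Ideal.mem_span_singleton'.1 hz
    rw [Ideal.mem_bot, smul_eq_mul, mul_left_comm, hy, mul_zero])
  have hg : g.ofConv y = 0 := by
    rw [← eps_comp_transl g, AlgHom.comp_apply]
    show Bialgebra.counitAlgHom k A (translEquiv g ((translEquiv g).symm d.e)) = 0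
    rw [AlgEquiv.apply_symm_apply]
    simpa using d.eps_e
  have hg2 : g.ofConv (1 - y) = 0 := by
    show (AlgEquiv.ofBijective (Algebra.ofId k (A ⧸ P)) hb).symm (Ideal.Quotient.mk P (1 - y)) = 0
    rw [Ideal.Quotient.eq_zero_iff_mem.2 hyP, map_zero]
  rw [map_sub, map_one, hg, sub_zero] at hg2
  exact one_ne_zero hg2

end Groth.Agent.FinHopf
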