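import Groth.Agent.FinHopf.Points

/-!
The rank of a finite group scheme kills it, over any field; étaleness for invertible rank.
-/

namespace Groth.Agent.FinHopf

open TensorProduct Module WithConv Coalgebra

universe u v

variable {k : Type u} [Field k] {A : Type v} [CommRing A] [HopfAlgebra k A]

lemma comul_one_tmul (K : Type u) [Field K] [Algebra k K] (a : A) :
    Coalgebra.comul (R := K) ((1 : K) ⊗ₜ[k] a)
      = ∑ i ∈ (ℛ k a).index, ((1 : K) ⊗ₜ[k] (ℛ k a).left i) ⊗ₜ[K] ((1 : K) ⊗ₜ[k] (ℛ k a).right i) := by
  have h := RingHom.congr_fun (Bialgebra.comul_includeRight (R := k) (A := K) (B := A)) a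
  simp only [RingHom.coe_comp, Function.comp_apply, RingHom.coe_coe,
    Algebra.TensorProduct.includeRight_apply, Bialgebra.comulAlgHom_apply] at h
  rw [h, ← (ℛ k a).eq]
  simp [map_sum]

/-- powers of the identity commute with base change -/
lemma includeRight_pow (K : Type u) [Field K] [Algebra k K] (m : ℕ) (a : A) :
    (1 : K) ⊗ₜ[k] ((toConv (AlgHom.id k A)) ^ m).ofConv a
      = ((toConv (AlgHom.id K (K ⊗[k] A))) ^ m).ofConv ((1 : K) ⊗ₜ[k] a) := by
  induction m generalizing a with
  | zero =>
    simp only [pow_zero]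
    show (1 : K) ⊗ₜ[k] (algebraMap k A (Coalgebra.counit a)) = algebraMap K (K ⊗[k] A) (Coalgebra.counit ((1 : K) ⊗ₜ[k] a))
    rw [Algebra.algebraMap_eq_smul_one, Algebra.algebraMap_eq_smul_one]
    simp [TensorProduct.smul_tmul', Algebra.algebraMap_eq_smul_one, Algebra.TensorProduct.one_def]
  | succ m ih =>
    rw [pow_succ, pow_succ]
    simp only [AlgHom.convMul_def, WithConv.ofConv_toConv, AlgHom.comp_apply,
      Bialgebra.comulAlgHom_apply, comul_one_tmul K a]
    conv_lhs => rw [← (ℛ k a).eq]
    simp only [map_sum, Algebra.TensorProduct.map_tmul, Algebra.TensorProduct.lmul'_apply_tmul,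
      tmul_sum, AlgHom.id_apply]
    refine Finset.sum_congr rfl fun i _ => ?_
    rw [← ih, Algebra.TensorProduct.tmul_mul_tmul, one_mul]

variable [Module.Finite k A]

/-- **The rank of a finite group scheme over a field kills it.** -/
theorem pow_finrank_eq_one : (toConv (AlgHom.id k A)) ^ finrank k A = 1 := by
  let K := AlgebraicClosure k
  apply WithConv.ofConv_injective
  ext a
  apply Algebra.TensorProduct.includeRight_injective (algebraMap k K).injective
  simp only [Algebra.TensorProduct.includeRight_apply]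
  rw [includeRight_pow K, ← Module.finrank_baseChange (R := K) (S := k) (M' := A),
    pow_finrank_eq_one_of_isAlgClosed, ← pow_zero (toConv (AlgHom.id K (K ⊗[k] A))),
    ← includeRight_pow K, pow_zero]

/-- **A finite group scheme of invertible rank is étale.** -/
theorem etale_of_finrank_ne_zero (h : (finrank k A : k) ≠ 0) : Algebra.Etale k A := by
  let K := AlgebraicClosure k
  suffices Algebra.Etale K (K ⊗[k] A) from Algebra.Etale.of_etale_tensorProduct_of_faithfullyFlat K
  haveI : IsReduced (K ⊗[k] A) := isReduced_of_isAlgClosed (k := K) (A := K ⊗[k] A) (by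
    rw [Module.finrank_baseChange]
    intro h0
    exact h ((algebraMap k K).injective (by rw [map_natCast, h0, map_zero])))
  haveI : IsArtinianRing (K ⊗[k] A) := IsArtinianRing.of_finite K _
  letI : ∀ I : MaximalSpectrum (K ⊗[k] A), Field ((K ⊗[k] A) ⧸ I.asIdeal) := fun I =>
    Ideal.Quotient.field I.asIdeal
  exact (Algebra.Etale.iff_exists_algEquiv_prod K (K ⊗[k] A)).2 ⟨MaximalSpectrum (K ⊗[k] A), inferInstance,
    fun I => (K ⊗[k] A) ⧸ I.asIdeal, inferInstance, inferInstance,
    (IsArtinianRing.equivPi _).restrictScalars K,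
    fun I => ⟨inferInstance, Algebra.IsAlgebraic.isSeparable_of_perfectField⟩⟩

end Groth.Agent.FinHopf
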