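import Groth.Agent.ComodBasic.FiniteInv
import Groth.Agent.FinHopf.DualPoints
import Mathlib.RingTheory.HopfAlgebra.Quotient
import Mathlib.RingTheory.Spectrum.Prime.FreeLocus
import Mathlib.RingTheory.LocalRing.Module

/-!
# Functions on a coset space of a finite group scheme

An invariant integral on every finite commutative Hopf algebra over a field, and the Galois property
of `A` over the invariants of a quotient Hopf algebra.
-/

noncomputable section

set_option autoImplicit false

namespace Groth.Agent.FinHopf.CosetFree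

open TensorProduct WithConv Coalgebra Groth.Agent.ComodBasic

universe u v w

variable {k : Type u} [Field k]

section Integral

variable {C : Type w} [CommRing C] [HopfAlgebra k C]

theorem exists_ann_ne_zero [Module.Finite k C] :
    ∃ Λ : C, Λ ≠ 0 ∧ ∀ c, Λ * c = counit (R := k) c • Λ := by
  haveI : Nontrivial C := (Bialgebra.counitAlgHom k C).toRingHom.domain_nontrivial
  haveI : IsArtinianRing C := IsArtinianRing.of_finite k C
  let m : Ideal C := RingHom.ker (Bialgebra.counitAlgHom k C)
  haveI hm : m.IsMaximal := RingHom.ker_isMaximal_of_surjective (Bialgebra.counitAlgHom k C)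
    fun c => ⟨algebraMap k C c, by simp⟩
  -- a complement of the component at `m`
  obtain ⟨t0, ht0⟩ := IsArtinianRing.isNilpotent_nilradical (R := C)
  classical
  haveI : Fintype (MaximalSpectrum C) := Fintype.ofFinite _
  let r : C → Prop := fun x => x ∉ m ∧ ∃ n, x ∈ ((Finset.univ.filter fun J : MaximalSpectrum C =>
    J.asIdeal ≠ m).inf fun J => J.asIdeal) ^ n
  let K : Ideal C := (Finset.univ.filter fun J : MaximalSpectrum C => J.asIdeal ≠ m).inf fun J => J.asIdeal
  obtain ⟨z, hzK, hzm⟩ : ∃ z ∈ K, z ∉ m := by
    by_contra! h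
    obtain ⟨J, hJ, hle⟩ := (Ideal.IsPrime.inf_le' hm.isPrime).1 (fun x hx => h x hx)
    exact (Finset.mem_filter.1 hJ).2 (J.isMaximal.eq_of_le hm.ne_top hle)
  have hnil : ∀ y ∈ m, IsNilpotent (z * y) := by
    intro y hy
    rw [← mem_nilradical, nilradical_eq_sInf, Ideal.mem_sInf]
    intro P hP
    haveI : P.IsPrime := hP
    haveI hPm : P.IsMaximal := IsArtinianRing.isMaximal_of_isPrime P
    by_cases hPe : P = m
    · exact hPe ▸ m.mul_mem_left z hy
    · exact P.mul_mem_right y ((Finset.inf_le (f := fun J : MaximalSpectrum C => J.asIdeal)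
        (Finset.mem_filter.2 ⟨Finset.mem_univ ⟨P, hPm⟩, hPe⟩)) hzK)
  -- the last nonzero `z ^ t * m ^ t`
  have hN : ∃ N, ∀ x ∈ m ^ N, z ^ N * x = 0 := by
    refine ⟨t0, fun x hx => ?_⟩
    have h : Ideal.span {z ^ t0} * m ^ t0 ≤ ⊥ := by
      rw [← Ideal.span_singleton_pow, ← mul_pow]
      refine le_trans (Ideal.pow_right_mono ?_ t0) (le_of_eq ht0)
      refine Ideal.mul_le.2 fun a ha b hb => ?_
      obtain ⟨c, rfl⟩ := Ideal.mem_span_singleton'.1 ha
      rw [mul_assoc]
      exact Ideal.mul_mem_left _ _ (mem_nilradical.2 (hnil b hb))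
    exact h (Ideal.mul_mem_mul (Ideal.mem_span_singleton_self _) hx)
  obtain ⟨N, hN⟩ := hN
  let Q : ℕ → Prop := fun j => ∀ x ∈ m ^ j, z ^ N * x = 0
  have hQ : ∃ j, Q j := ⟨N, hN⟩
  have h0 : Nat.find hQ ≠ 0 := by
    intro h
    have h1 : Q 0 := h ▸ Nat.find_spec hQ
    have h2 := h1 1 (by rw [pow_zero, Ideal.one_eq_top]; trivial)
    rw [mul_one] at h2
    exact hzm (hm.isPrime.mem_of_pow_mem N (h2 ▸ zero_mem m))
  obtain ⟨j, hj⟩ := Nat.exists_eq_succ_of_ne_zero h0
  have hj' : ¬ Q j := Nat.find_min hQ (by omega)
  simp only [Q, not_forall] at hj'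
  obtain ⟨x, hxm, hx0⟩ := hj'
  refine ⟨z ^ N * x, hx0, fun c => ?_⟩
  have hspec : Q (j + 1) := by
    have := Nat.find_spec hQ
    rwa [hj] at this
  have h := hspec (x * (c - algebraMap k C (counit (R := k) c)))
    (by rw [pow_succ]; exact Ideal.mul_mem_mul hxm (by simp [m]))
  rw [mul_sub, mul_sub, sub_eq_zero, ← mul_assoc] at h
  rw [h, Algebra.smul_def]
  ring

theorem exists_integral [Module.Finite k C] :
    ∃ (t : C →ₗ[k] k) (Λ : C), IsLeftInt t ∧ t Λ = 1 ∧ ∀ c, t (Λ * c) = counit (R := k) c := by
  obtain ⟨Λ, hΛ0, hΛ⟩ := exists_ann_ne_zero (k := k) (C := C)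
  let Ψ : (C →ₗ[k] k) →ₗ[k] C := sliceₗ (comul (R := k) Λ)
  have hΨ : ∀ ψ, Ψ ψ = slice ψ (comul (R := k) Λ) := fun ψ => rfl
  let R : Submodule k C := LinearMap.range Ψ
  have hkey : ∀ c : C, comul (R := k) Λ * (c ⊗ₜ[k] (1 : C)) =
      comul (R := k) Λ * ((1 : C) ⊗ₜ[k] HopfAlgebra.antipode k c) := by
    intro c
    let F : C ⊗[k] C →ₗ[k] C ⊗[k] C :=
      LinearMap.mul' k (C ⊗[k] C) ∘ₗ TensorProduct.map
        (LinearMap.mulLeft k (comul (R := k) Λ) ∘ₗ comul)
        ((TensorProduct.mk k C C 1) ∘ₗ HopfAlgebra.antipode k)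
    have h1 : F (comul (R := k) c) = comul (R := k) Λ * (c ⊗ₜ[k] (1 : C)) := by
      let G : C ⊗[k] (C ⊗[k] C) →ₗ[k] C ⊗[k] C :=
        LinearMap.mulLeft k (comul (R := k) Λ) ∘ₗ
          (LinearMap.mul' k C ∘ₗ (HopfAlgebra.antipode k).lTensor C).lTensor C
      have hF : ∀ z, F z = G (TensorProduct.assoc k C C C ((comul (R := k) (A := C)).rTensor C z)) := by
        intro z
        induction z using TensorProduct.induction_on with
        | zero => simp
        | add a b ha hb => simp only [map_add, ha, hb]
        | tmul a b =>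
          simp only [F, G, LinearMap.comp_apply, TensorProduct.map_tmul, LinearMap.mul'_apply,
            LinearMap.mulLeft_apply, LinearMap.rTensor_tmul, TensorProduct.mk_apply]
          rw [mul_assoc]
          generalize comul (R := k) a = z
          induction z using TensorProduct.induction_on with
          | zero => simp
          | add p q hp hq => simp only [add_mul, add_tmul, map_add, mul_add, hp, hq]
          | tmul p q => simp
      rw [hF, Coalgebra.coassoc_apply]
      simp only [G, LinearMap.comp_apply, LinearMap.mulLeft_apply]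
      rw [← LinearMap.comp_apply (f := LinearMap.lTensor C _) (g := LinearMap.lTensor C _),
        ← LinearMap.lTensor_comp, LinearMap.comp_assoc, HopfAlgebra.mul_antipode_lTensor_comul,
        LinearMap.lTensor_comp, LinearMap.comp_apply, Coalgebra.lTensor_counit_comul]
      simp
    have h2 : ∀ z : C ⊗[k] C, F z = comul (R := k) Λ *
        ((1 : C) ⊗ₜ[k] HopfAlgebra.antipode k (TensorProduct.lid k C ((counit (R := k)).rTensor C z))) := by
      intro z
      induction z using TensorProduct.induction_on with
      | zero => simp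
      | add a b ha hb => simp only [map_add, tmul_add, mul_add, ha, hb]
      | tmul a b =>
        simp only [F, LinearMap.comp_apply, TensorProduct.map_tmul, LinearMap.mul'_apply,
          LinearMap.mulLeft_apply, TensorProduct.mk_apply, LinearMap.rTensor_tmul, TensorProduct.lid_tmul,
          map_smul, tmul_smul, mul_smul_comm]
        rw [← Bialgebra.comul_mul, hΛ, map_smul, smul_mul_assoc]
    rw [← h1, h2, Coalgebra.rTensor_counit_comul]
    simp
  have hRideal : ∀ c, ∀ r ∈ R, r * c ∈ R := by
    rintro c _ ⟨ψ, rfl⟩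
    refine ⟨ψ ∘ₗ LinearMap.mulRight k (HopfAlgebra.antipode k c), ?_⟩
    rw [hΨ, hΨ, ← slice_mul_tmul_one, hkey]
    generalize comul (R := k) Λ = z
    induction z using TensorProduct.induction_on with
    | zero => simp
    | add a b ha hb => simp only [map_add, add_mul, ha, hb]
    | tmul a b => simp [mul_comm]
  have hRcomod : ∀ r ∈ R, ∀ φ : C →ₗ[k] k, slice φ (comul (R := k) r) ∈ R := by
    rintro _ ⟨ψ, rfl⟩ φ
    refine ⟨(toConv φ * toConv ψ).ofConv, ?_⟩
    let G : C ⊗[k] (C ⊗[k] C) →ₗ[k] C := slice (LinearMap.mul' k k ∘ₗ TensorProduct.map φ ψ)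
    have h : ∀ z : C ⊗[k] C, slice φ (comul (R := k) (slice ψ z)) =
        G (TensorProduct.assoc k C C C ((comul (R := k) (A := C)).rTensor C z)) := by
      intro z
      induction z using TensorProduct.induction_on with
      | zero => simp
      | add a b ha hb => simp only [map_add, ha, hb]
      | tmul a b =>
        simp only [slice_tmul, map_smul, LinearMap.rTensor_tmul]
        generalize comul (R := k) a = z
        induction z using TensorProduct.induction_on with
        | zero => simp
        | add p q hp hq => simp only [add_tmul, map_add, smul_add, hp, hq]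
        | tmul p q => simp [G, smul_smul, mul_comm]
    rw [hΨ, hΨ, h, Coalgebra.coassoc_apply]
    generalize comul (R := k) Λ = z
    induction z using TensorProduct.induction_on with
    | zero => simp
    | add a b ha hb => simp only [map_add, ha, hb]
    | tmul a b => simp [G]
  have hΛR : Λ ∈ R := by
    refine ⟨counit, ?_⟩
    rw [hΨ]
    show TensorProduct.rid k C ((counit (R := k)).lTensor C (comul (R := k) Λ)) = Λ
    rw [Coalgebra.lTensor_counit_comul]
    simp
  obtain ⟨r, hrR, hr⟩ : ∃ r ∈ R, counit (R := k) r ≠ 0 := by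
    by_contra! h
    refine hΛ0 (DualPoints.dual_ext (B := k) fun φ => ?_)
    have h1 := h _ (hRcomod Λ hΛR φ)
    have h2 : ∀ z : C ⊗[k] C, counit (R := k) (slice φ z) =
        φ (TensorProduct.lid k C ((counit (R := k)).rTensor C z)) := fun z => by
      induction z using TensorProduct.induction_on with
      | zero => simp
      | add a b ha hb => simp only [map_add, ha, hb]
      | tmul a b => simp [mul_comm]
    rw [h2, Coalgebra.rTensor_counit_comul] at h1
    simpa using h1
  have h1R : (1 : C) ∈ R := by
    have h : ∀ z : C ⊗[k] C, (∀ φ : C →ₗ[k] k, slice φ z ∈ R) →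
        LinearMap.mul' k C ((HopfAlgebra.antipode k).lTensor C z) ∈ R := by
      intro z hz
      obtain ⟨n, a, θ, hθ⟩ := OTLib.exists_dualFrame k C
      have hz' : z = ∑ i, slice (θ i) z ⊗ₜ[k] a i := by
        clear hz
        induction z using TensorProduct.induction_on with
        | zero => simp
        | add p q hp hq => simp only [map_add, add_tmul, Finset.sum_add_distrib, ← hp, ← hq]
        | tmul p q =>
          conv_lhs => rw [← hθ q]
          simp [tmul_sum, smul_tmul']
      rw [hz', map_sum, map_sum]
      refine Submodule.sum_mem _ fun i _ => ?_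
      rw [LinearMap.lTensor_tmul, LinearMap.mul'_apply]
      exact hRideal _ _ (hz (θ i))
    have h2 := h _ (hRcomod r hrR)
    rw [HopfAlgebra.mul_antipode_lTensor_comul_apply, Algebra.algebraMap_eq_smul_one] at h2
    have h3 := R.smul_mem (counit (R := k) r)⁻¹ h2
    rwa [smul_smul, inv_mul_cancel₀ hr, one_smul] at h3
  have hsurj : Function.Surjective Ψ := fun c => by
    have := hRideal c 1 h1R
    rwa [one_mul] at this
  obtain ⟨t, ht⟩ := hsurj 1
  have hinj : Function.Injective Ψ :=
    (LinearMap.injective_iff_surjective_of_finrank_eq_finrank (Module.finrank_linearMap_self k k C)).2 hsurj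
  have htΛ : t Λ = 1 := by
    have h2 : ∀ z : C ⊗[k] C, counit (R := k) (slice t z) =
        t (TensorProduct.lid k C ((counit (R := k)).rTensor C z)) := fun z => by
      induction z using TensorProduct.induction_on with
      | zero => simp
      | add a b ha hb => simp only [map_add, ha, hb]
      | tmul a b => simp [mul_comm]
    have h := congrArg (counit (R := k)) ht
    rw [hΨ, h2, Coalgebra.rTensor_counit_comul, Bialgebra.counit_one] at h
    simpa using h
  refine ⟨t, Λ, fun x => DualPoints.dual_ext (B := k) fun φ => ?_, htΛ, fun c => by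
    rw [hΛ, map_smul, htΛ, smul_eq_mul, mul_one]⟩
  -- `φ * t = φ 1 • t`
  have hct : (toConv φ * toConv t).ofConv = φ 1 • t := by
    refine hinj ?_
    rw [map_smul, ht, hΨ]
    let G : C ⊗[k] (C ⊗[k] C) →ₗ[k] C := slice (LinearMap.mul' k k ∘ₗ TensorProduct.map φ t)
    have h : ∀ z : C ⊗[k] C, slice φ (comul (R := k) (slice t z)) =
        G (TensorProduct.assoc k C C C ((comul (R := k) (A := C)).rTensor C z)) := by
      intro z
      induction z using TensorProduct.induction_on with
      | zero => simp
      | add a b ha hb => simp only [map_add, ha, hb]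
      | tmul a b =>
        simp only [slice_tmul, map_smul, LinearMap.rTensor_tmul]
        generalize comul (R := k) a = z
        induction z using TensorProduct.induction_on with
        | zero => simp
        | add p q hp hq => simp only [add_tmul, map_add, smul_add, hp, hq]
        | tmul p q => simp [G, smul_smul, mul_comm]
    have h1 := h (comul (R := k) Λ)
    rw [show slice t (comul (R := k) Λ) = 1 from ht, Bialgebra.comul_one, Algebra.TensorProduct.one_def,
      slice_tmul, Coalgebra.coassoc_apply] at h1
    rw [h1]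
    generalize comul (R := k) Λ = z
    induction z using TensorProduct.induction_on with
    | zero => simp
    | add a b ha hb => simp only [map_add, ha, hb]
    | tmul a b => simp [G]
  have h := LinearMap.congr_fun hct x
  have h2 : ∀ z : C ⊗[k] C, φ (slice t z) = LinearMap.mul' k k (TensorProduct.map φ t z) := fun z => by
    induction z using TensorProduct.induction_on with
    | zero => simp
    | add a b ha hb => simp only [map_add, ha, hb]
    | tmul a b => simp [mul_comm]
  rw [map_smul, h2, smul_eq_mul, mul_comm]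
  simpa [LinearMap.convMul_apply] using h

end Integral

section Coset

variable {A : Type v} [CommRing A] [HopfAlgebra k A] [Module.Finite k A]
  {C : Type w} [CommRing C] [HopfAlgebra k C] (π : A →ₐc[k] C)

/-- `a ↦ a₁ ⊗ π a₂` -/
def ρ : A →ₐ[k] A ⊗[k] C :=
  (Algebra.TensorProduct.map (AlgHom.id k A) (π : A →ₐ[k] C)).comp (Bialgebra.comulAlgHom k A)

/-- invariant functions -/
def inv : Subalgebra k A :=
  AlgHom.equalizer (ρ π) (Algebra.TensorProduct.includeLeft : A →ₐ[k] A ⊗[k] C)

theorem ρ_coassoc (a : A) :
    TensorProduct.assoc k A C C ((ρ π).toLinearMap.rTensor C (ρ π a)) =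
      (comul (R := k) (A := C)).lTensor A (ρ π a) := by
  let G : A ⊗[k] (A ⊗[k] A) →ₗ[k] A ⊗[k] (C ⊗[k] C) :=
    (TensorProduct.map (π : A →ₐ[k] C).toLinearMap (π : A →ₐ[k] C).toLinearMap).lTensor A
  have hπ : ∀ b : A, comul (R := k) (π b) =
      TensorProduct.map (π : A →ₐ[k] C).toLinearMap (π : A →ₐ[k] C).toLinearMap (comul (R := k) b) :=
    fun b => (CoalgHomClass.map_comp_comul_apply π b).symm
  have h1 : ∀ z : A ⊗[k] A, TensorProduct.assoc k A C C ((ρ π).toLinearMap.rTensor C
      (Algebra.TensorProduct.map (AlgHom.id k A) (π : A →ₐ[k] C) z)) =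
      G (TensorProduct.assoc k A A A ((comul (R := k) (A := A)).rTensor A z)) := by
    intro z
    induction z using TensorProduct.induction_on with
    | zero => simp
    | add p q hp hq => simp only [map_add, hp, hq]
    | tmul p q =>
      simp only [Algebra.TensorProduct.map_tmul, AlgHom.id_apply, LinearMap.rTensor_tmul, ρ,
        AlgHom.toLinearMap_apply, AlgHom.comp_apply, Bialgebra.comulAlgHom_apply]
      generalize comul (R := k) p = w
      induction w using TensorProduct.induction_on with
      | zero => simp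
      | add s s' hs hs' => simp only [map_add, add_tmul, hs, hs']
      | tmul s s' => simp [G]
  have h2 : ∀ z : A ⊗[k] A, G ((comul (R := k) (A := A)).lTensor A z) = (comul (R := k) (A := C)).lTensor A
      (Algebra.TensorProduct.map (AlgHom.id k A) (π : A →ₐ[k] C) z) := by
    intro z
    induction z using TensorProduct.induction_on with
    | zero => simp
    | add p q hp hq => simp only [map_add, hp, hq]
    | tmul p q =>
      simp only [LinearMap.lTensor_tmul, Algebra.TensorProduct.map_tmul, AlgHom.id_apply, G]
      rw [← hπ]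
      rfl
  show TensorProduct.assoc k A C C ((ρ π).toLinearMap.rTensor C
    (Algebra.TensorProduct.map (AlgHom.id k A) (π : A →ₐ[k] C) (comul (R := k) a))) = _
  rw [h1, Coalgebra.coassoc_apply, h2]
  rfl

theorem slice_ρ_mem {t : C →ₗ[k] k} (ht : IsLeftInt t) (a : A) : slice t (ρ π a) ∈ inv π := by
  show ρ π (slice t (ρ π a)) = slice t (ρ π a) ⊗ₜ[k] (1 : C)
  have h1 : ∀ z : A ⊗[k] C, ρ π (slice t z) =
      (slice t).lTensor A (TensorProduct.assoc k A C C ((ρ π).toLinearMap.rTensor C z)) := by
    intro z
    induction z using TensorProduct.induction_on with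
    | zero => simp
    | add p q hp hq => simp only [map_add, hp, hq]
    | tmul p q =>
      simp only [slice_tmul, map_smul, LinearMap.rTensor_tmul, AlgHom.toLinearMap_apply]
      generalize ρ π p = w
      induction w using TensorProduct.induction_on with
      | zero => simp
      | add s s' hs hs' => simp only [map_add, add_tmul, smul_add, hs, hs']
      | tmul s s' => simp [tmul_smul]
  rw [h1, ρ_coassoc]
  generalize ρ π a = z
  induction z using TensorProduct.induction_on with
  | zero => simp
  | add p q hp hq => simp only [map_add, add_tmul, hp, hq]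
  | tmul p q => simp [ht q, smul_tmul']

theorem slice_smul_tmul_one (t : C →ₗ[k] k) (x : A) (z : A ⊗[k] C) :
    slice t ((x ⊗ₜ[k] (1 : C)) * z) = x * slice t z := by
  induction z using TensorProduct.induction_on with
  | zero => simp
  | add p q hp hq => simp only [map_add, mul_add, hp, hq]
  | tmul p q => simp

theorem slice_one_tmul (t : C →ₗ[k] k) (Λ : C) (z : A ⊗[k] C) :
    slice t (((1 : A) ⊗ₜ[k] Λ) * z) = slice (t ∘ₗ LinearMap.mulLeft k Λ) z := by
  induction z using TensorProduct.induction_on with
  | zero => simp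
  | add p q hp hq => simp only [map_add, mul_add, hp, hq]
  | tmul p q => simp

theorem exists_frame (hπ : Function.Surjective π) {t : C →ₗ[k] k} (ht : IsLeftInt t) {Λ : C}
    (hΛ : ∀ c, t (Λ * c) = counit (R := k) c) :
    ∃ (n : ℕ) (x : Fin n → A) (y : Fin n → A),
      ∀ a, ∑ i, x i * slice t (ρ π (y i * a)) = a := by
  classical
  obtain ⟨w, hw⟩ : ∃ w : A ⊗[k] A, Algebra.TensorProduct.lift
      (Algebra.TensorProduct.includeLeft : A →ₐ[k] A ⊗[k] C) (ρ π) (fun _ _ => Commute.all _ _) w =
      (1 : A) ⊗ₜ[k] Λ := by
    obtain ⟨l, hl⟩ := hπ Λ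
    refine ⟨ComodBasic.galInv l, ?_⟩
    have e : Algebra.TensorProduct.lift (Algebra.TensorProduct.includeLeft : A →ₐ[k] A ⊗[k] C) (ρ π)
        (fun _ _ => Commute.all _ _) =
        (Algebra.TensorProduct.map (AlgHom.id k A) (π : A →ₐ[k] C)).comp ComodBasic.galMap := by
      refine Algebra.TensorProduct.ext ?_ ?_
      · ext a; simp [ComodBasic.galMap]
      · ext a; simp [ComodBasic.galMap, ρ, ← Algebra.TensorProduct.one_def]
    rw [e, AlgHom.comp_apply, ComodBasic.galMap_galInv, Algebra.TensorProduct.map_tmul, AlgHom.id_apply]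
    exact congrArg _ hl
  obtain ⟨S, hS⟩ := TensorProduct.exists_finset (R := k) w
  refine ⟨S.card, fun i => (S.equivFin.symm i).1.1, fun i => (S.equivFin.symm i).1.2, fun a => ?_⟩
  rw [Equiv.sum_comp S.equivFin.symm (fun s : S => s.1.1 * slice t (ρ π (s.1.2 * a))),
    Finset.sum_coe_sort S (fun s => s.1 * slice t (ρ π (s.2 * a)))]
  rw [hS, map_sum] at hw
  simp only [Algebra.TensorProduct.lift_tmul, Algebra.TensorProduct.includeLeft_apply] at hw
  calc ∑ s ∈ S, s.1 * slice t (ρ π (s.2 * a))
      = slice t ((∑ s ∈ S, (s.1 ⊗ₜ[k] (1 : C)) * ρ π s.2) * ρ π a) := by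
        rw [Finset.sum_mul, map_sum]
        refine Finset.sum_congr rfl fun s _ => ?_
        rw [mul_assoc, slice_smul_tmul_one, map_mul]
    _ = a := by
        rw [hw, slice_one_tmul]
        have : t ∘ₗ LinearMap.mulLeft k Λ = counit := LinearMap.ext hΛ
        rw [this]
        show slice counit (Algebra.TensorProduct.map (AlgHom.id k A) (π : A →ₐ[k] C) (comul (R := k) a)) = a
        have h : ∀ z : A ⊗[k] A, slice (counit (R := k) (A := C))
            (Algebra.TensorProduct.map (AlgHom.id k A) (π : A →ₐ[k] C) z) =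
            TensorProduct.rid k A ((counit (R := k)).lTensor A z) := by
          intro z
          induction z using TensorProduct.induction_on with
          | zero => simp
          | add p q hp hq => simp only [map_add, hp, hq]
          | tmul p q => simp
        rw [h, Coalgebra.lTensor_counit_comul]
        simp

/-- `A` over the invariants: finite free of rank `dim C`. -/
theorem free_and_finrank (hπ : Function.Surjective π) :
    Module.Free (inv π) A ∧ Module.finrank (inv π) A = Module.finrank k C := by
  classical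
  haveI : Module.Finite k C := Module.Finite.of_surjective (π : A →ₐ[k] C).toLinearMap hπ
  obtain ⟨t, Λ, ht, -, hΛ⟩ := exists_integral (k := k) (C := C)
  obtain ⟨n, x, y, hxy⟩ := exists_frame π hπ ht hΛ
  have hρB : ∀ (b : inv π) (a : A), ρ π ((b : A) * a) = ((b : A) ⊗ₜ[k] (1 : C)) * ρ π a := fun b a => by
    rw [map_mul, show ρ π (b : A) = (b : A) ⊗ₜ[k] (1 : C) from b.2]
  let T : Fin n → (A →ₗ[inv π] inv π) := fun i =>
    { toFun := fun a => ⟨slice t (ρ π (y i * a)), slice_ρ_mem π ht _⟩
      map_add' := fun a a' => Subtype.ext (by simp [mul_add])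
      map_smul' := fun b a => Subtype.ext (by
        show slice t (ρ π (y i * ((b : A) * a))) = (b : A) * slice t (ρ π (y i * a))
        rw [mul_left_comm, hρB, slice_smul_tmul_one]) }
  have hT : ∀ a, ∑ i, T i a • x i = a := fun a => by
    conv_rhs => rw [← hxy a]
    exact Finset.sum_congr rfl fun i _ => mul_comm _ _
  let s : (Fin n → inv π) →ₗ[inv π] A := Fintype.linearCombination (inv π) x
  have hs : s ∘ₗ LinearMap.pi T = LinearMap.id := LinearMap.ext fun a => by
    simp only [s, LinearMap.comp_apply, Fintype.linearCombination_apply, LinearMap.pi_apply,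
      LinearMap.id_apply]
    exact hT a
  haveI : Module.Projective (inv π) A := Module.Projective.of_split (LinearMap.pi T) s hs
  haveI : Module.Finite (inv π) A :=
    Module.Finite.of_surjective s fun a => ⟨_, LinearMap.congr_fun hs a⟩
  -- the Galois map
  let ρ' : A →ₐ[inv π] A ⊗[k] C :=
    { (ρ π).toRingHom with commutes' := fun b => b.2 }
  let β : A ⊗[inv π] A →ₐ[A] A ⊗[k] C :=
    Algebra.TensorProduct.lift (Algebra.TensorProduct.includeLeft : A →ₐ[A] A ⊗[k] C) ρ'
      fun _ _ => Commute.all _ _
  have hβ : ∀ a b : A, β (a ⊗ₜ b) = (a ⊗ₜ[k] (1 : C)) * ρ π b := fun a b => rfl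
  have hsurj : Function.Surjective β := by
    intro z
    induction z using TensorProduct.induction_on with
    | zero => exact ⟨0, map_zero _⟩
    | add p q hp hq =>
      obtain ⟨p', rfl⟩ := hp; obtain ⟨q', rfl⟩ := hq
      exact ⟨p' + q', map_add _ _ _⟩
    | tmul a c =>
      obtain ⟨l, rfl⟩ := hπ c
      obtain ⟨S, hS⟩ := TensorProduct.exists_finset (R := k) (ComodBasic.galInv (k := k) l)
      refine ⟨a • ∑ s ∈ S, s.1 ⊗ₜ[inv π] s.2, ?_⟩
      have h := congrArg (Algebra.TensorProduct.map (AlgHom.id k A) (π : A →ₐ[k] C))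
        (ComodBasic.galMap_galInv (k := k) l)
      rw [hS, map_sum, map_sum, Algebra.TensorProduct.map_tmul, AlgHom.id_apply] at h
      rw [map_smul, map_sum, show a ⊗ₜ[k] π l = a • ((1 : A) ⊗ₜ[k] π l) by simp [smul_tmul'],
        show π l = (π : A →ₐ[k] C) l from rfl, ← h]
      congr 1
      refine Finset.sum_congr rfl fun s _ => ?_
      simp [hβ, ComodBasic.galMap, ρ]
  have hinj : Function.Injective β := by
    rw [injective_iff_map_eq_zero]
    intro z hz
    have key : ∀ z : A ⊗[inv π] A, z = ∑ i, slice t (β z * ρ π (y i)) ⊗ₜ[inv π] x i := by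
      intro z
      induction z using TensorProduct.induction_on with
      | zero => simp
      | add p q hp hq => simp only [map_add, add_mul, add_tmul, Finset.sum_add_distrib, ← hp, ← hq]
      | tmul a b =>
        conv_lhs => rw [← hT b, tmul_sum]
        refine Finset.sum_congr rfl fun i _ => ?_
        rw [← smul_tmul, hβ, mul_assoc, ← map_mul, slice_smul_tmul_one, mul_comm b (y i)]
        congr 1
        exact mul_comm _ _
    rw [key z, hz]
    simp
  let βe : A ⊗[inv π] A ≃ₗ[A] A ⊗[k] C := (AlgEquiv.ofBijective β ⟨hinj, hsurj⟩).toLinearEquiv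
  haveI : Module.Free A (A ⊗[inv π] A) := Module.Free.of_equiv βe.symm
  haveI : IsArtinianRing A := IsArtinianRing.of_finite k A
  haveI : Module.Finite k (inv π) :=
    Module.Finite.of_injective (inv π).val.toLinearMap Subtype.val_injective
  haveI : Algebra.IsIntegral (inv π) A := Algebra.IsIntegral.of_finite (inv π) A
  haveI : Nontrivial A := (Bialgebra.counitAlgHom k A).toRingHom.domain_nontrivial
  have hrank : ∀ q : PrimeSpectrum (inv π), Module.rankAtStalk (R := inv π) A q = Module.finrank k C := by
    intro q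
    obtain ⟨P, -, hPp, hPc⟩ := Ideal.exists_ideal_over_prime_of_isIntegral (R := inv π) (S := A) q.asIdeal ⊥
      (fun a ha => by
        have h0 : (a : A) = 0 := ha
        rw [show a = 0 from Subtype.ext h0]
        exact zero_mem _)
    have hP : (⟨P, hPp⟩ : PrimeSpectrum A).comap (algebraMap (inv π) A) = q := PrimeSpectrum.ext hPc
    rw [← hP, ← Module.rankAtStalk_baseChange, Module.rankAtStalk_eq_finrank_of_free]
    simp only [Pi.natCast_apply, Nat.cast_id]
    rw [βe.finrank_eq, Module.finrank_baseChange]
  haveI : Nontrivial (inv π) := ⟨⟨0, 1, fun h => zero_ne_one (congrArg Subtype.val h)⟩⟩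
  haveI : IsArtinianRing (inv π) := IsArtinianRing.of_finite k (inv π)
  haveI : Module.Free (inv π) A := Module.free_of_flat_of_finrank_eq _ _ (Module.finrank k C) fun P => by
    letI := Ideal.Quotient.field P.asIdeal
    have h := Module.rankAtStalk_baseChange (R := inv π) (M := A) (S := inv π ⧸ P.asIdeal) ⟨⊥, Ideal.isPrime_bot⟩
    rw [Module.rankAtStalk_eq_finrank_of_free, hrank] at h
    simpa using h
  refine ⟨this, ?_⟩
  obtain ⟨q⟩ := (inferInstance : Nonempty (PrimeSpectrum (inv π)))
  have h := hrank q
  rw [Module.rankAtStalk_eq_finrank_of_free] at h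
  simpa using h

end Coset

end Groth.Agent.FinHopf.CosetFree
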