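import Mathlib

/-!
A finite local algebra with residue field `k` carrying a counital "comultiplication"
`R → R ⊗ R` has dimension a power of the characteristic (`1` in characteristic zero).
-/

namespace Groth.Agent.FinHopf

open TensorProduct Module

universe u v

variable {k : Type u} [Field k] {R : Type v} [CommRing R] [Algebra k R]

/-- `a ⊗ b ↦ φ b • a` -/
noncomputable def evalR (φ : R →ₗ[k] k) : R ⊗[k] R →ₗ[k] R :=
  (TensorProduct.rid k R).toLinearMap ∘ₗ φ.lTensor R

@[simp] lemma evalR_tmul (φ : R →ₗ[k] k) (a b : R) : evalR φ (a ⊗ₜ b) = φ b • a := by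
  simp [evalR]

/-- `a ⊗ b ↦ φ a • b` -/
noncomputable def evalL (φ : R →ₗ[k] k) : R ⊗[k] R →ₗ[k] R :=
  (TensorProduct.lid k R).toLinearMap ∘ₗ φ.rTensor R

@[simp] lemma evalL_tmul (φ : R →ₗ[k] k) (a b : R) : evalL φ (a ⊗ₜ b) = φ a • b := by
  simp [evalL]

/-- a local algebra with a counital comultiplication -/
structure Datum (k : Type u) [Field k] (R : Type v) [CommRing R] [Algebra k R] where
  /-- the point -/
  ε : R →ₐ[k] k
  /-- the comultiplication -/
  δ : R →ₐ[k] R ⊗[k] R
  nil : ∀ x, ε x = 0 → IsNilpotent x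
  hl : ∀ x, evalL ε.toLinearMap (δ x) = x
  hr : ∀ x, evalR ε.toLinearMap (δ x) = x

variable (d : Datum k R)

/-- subalgebra stable under the comultiplication -/
def Stable (B : Subalgebra k R) : Prop :=
  ∀ x ∈ B, d.δ x ∈ (Algebra.TensorProduct.map B.val B.val).range

lemma exists_derivation {B : Subalgebra k R} (hB : Stable d B) (φ : R →ₗ[k] k)
    (hφ1 : φ 1 = 0) (hφ : ∀ a ∈ B, ∀ b ∈ B, d.ε a = 0 → d.ε b = 0 → φ (a * b) = 0) :
    ∃ D : Derivation k B B, ∀ x : B, d.ε (D x : R) = φ (x : R) := by
  have hmem : ∀ u, evalR φ (Algebra.TensorProduct.map B.val B.val u) ∈ B := by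
    intro u
    induction u using TensorProduct.induction_on with
    | zero => simp
    | tmul a b => simpa using Subalgebra.smul_mem B a.2 _
    | add x y hx hy => rw [map_add, map_add]; exact add_mem hx hy
  have hleib : ∀ a ∈ B, ∀ b ∈ B, φ (a * b) = φ a * d.ε b + d.ε a * φ b := by
    intro a ha b hb
    have h := hφ (a - algebraMap k R (d.ε a)) (sub_mem ha (B.algebraMap_mem _))
      (b - algebraMap k R (d.ε b)) (sub_mem hb (B.algebraMap_mem _)) (by simp) (by simp)
    have he : (a - algebraMap k R (d.ε a)) * (b - algebraMap k R (d.ε b))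
        = a * b - d.ε a • b - d.ε b • a + (d.ε a * d.ε b) • (1 : R) := by
      simp only [Algebra.smul_def, map_mul, mul_one]; ring
    rw [he, map_add, map_sub, map_sub, map_smul, map_smul, map_smul, hφ1, smul_zero, add_zero,
      smul_eq_mul, smul_eq_mul] at h
    linear_combination h
  have hmul : ∀ u v, evalR φ (Algebra.TensorProduct.map B.val B.val u *
        Algebra.TensorProduct.map B.val B.val v)
      = evalR φ (Algebra.TensorProduct.map B.val B.val u) *
          evalR d.ε.toLinearMap (Algebra.TensorProduct.map B.val B.val v)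
        + evalR d.ε.toLinearMap (Algebra.TensorProduct.map B.val B.val u) *
          evalR φ (Algebra.TensorProduct.map B.val B.val v) := by
    intro u v
    induction u using TensorProduct.induction_on with
    | zero => simp
    | add x y hx hy => simp only [map_add, add_mul, hx, hy]; ring
    | tmul a b =>
      induction v using TensorProduct.induction_on with
      | zero => simp
      | add x y hx hy => simp only [map_add, mul_add, hx, hy]; ring
      | tmul c e =>
        simp only [Algebra.TensorProduct.map_tmul, Subalgebra.coe_val,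
          Algebra.TensorProduct.tmul_mul_tmul, evalR_tmul, hleib _ b.2 _ e.2,
          AlgHom.toLinearMap_apply, Algebra.smul_def, map_add, map_mul]
        ring
  let L : B →ₗ[k] B := LinearMap.codRestrict (Subalgebra.toSubmodule B)
    ((evalR φ ∘ₗ d.δ.toLinearMap) ∘ₗ B.val.toLinearMap) (fun x => by
      obtain ⟨u, hu⟩ := hB x x.2
      simpa [← (hu : Algebra.TensorProduct.map B.val B.val u = d.δ x)] using hmem u)
  refine ⟨Derivation.mk' L fun a b => ?_, fun x => ?_⟩
  · obtain ⟨u, hu⟩ := hB a a.2
    obtain ⟨w, hw⟩ := hB b b.2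
    change Algebra.TensorProduct.map B.val B.val u = d.δ a at hu
    change Algebra.TensorProduct.map B.val B.val w = d.δ b at hw
    apply Subtype.ext
    show evalR φ (d.δ ((a : R) * b)) = (a : R) * evalR φ (d.δ b) + (b : R) * evalR φ (d.δ a)
    rw [map_mul, ← hu, ← hw, hmul, hu, hw, d.hr, d.hr]
    ring
  · show d.ε (evalR φ (d.δ x)) = φ x
    conv_rhs => rw [← d.hl x]
    induction d.δ (x : R) using TensorProduct.induction_on with
    | zero => simp
    | tmul a b => simp [mul_comm]
    | add s t hs ht => simp [hs, ht]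

lemma isUnit_of_eps {x : R} (h : d.ε x ≠ 0) : IsUnit x := by
  have h1 : IsNilpotent (x - algebraMap k R (d.ε x)) := d.nil _ (by simp)
  have h2 : IsUnit (algebraMap k R (d.ε x)) := (IsUnit.mk0 _ h).map _
  simpa using h1.isUnit_add_right_of_commute h2 (Commute.all _ _)

variable [Module.Finite k R]

open Classical in
/-- coordinates and dual derivations on a stable subalgebra -/
lemma exists_coords {B : Subalgebra k R} (hB : Stable d B) :
    ∃ (r : ℕ) (x : Fin r → B) (E : Fin r → Derivation k B B),
      (∀ i j, E i (x j) = if i = j then 1 else 0) ∧ (∀ j, d.ε (x j : R) = 0) ∧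
      Algebra.adjoin k (Set.range x) = ⊤ := by
  set W : Submodule k R := Subalgebra.toSubmodule B ⊓ LinearMap.ker d.ε.toLinearMap with hW
  have hWB : ∀ {y}, y ∈ W → y ∈ B := fun h => h.1
  have hWε : ∀ {y}, y ∈ W → d.ε y = 0 := fun h => h.2
  have hW2 : W * W ≤ W := Submodule.mul_le.2 fun a ha b hb =>
    ⟨B.mul_mem (hWB ha) (hWB hb), by simp [hWε ha]⟩
  obtain ⟨U0, hU0⟩ := Submodule.exists_isCompl (W * W)
  set U : Submodule k R := U0 ⊓ W with hU
  have hUW : W * W ⊔ U = W := by
    rw [hU, ← sup_inf_assoc_of_le U0 hW2, hU0.sup_eq_top, top_inf_eq]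
  have hdisj : U ⊓ W * W = ⊥ := eq_bot_iff.2 fun y hy => hU0.disjoint.le_bot ⟨hy.2, hy.1.1⟩
  set T : Submodule k R := W * W ⊔ Submodule.span k {1} with hT
  have hginj : Function.Injective (T.mkQ ∘ₗ U.subtype) := by
    rw [← LinearMap.ker_eq_bot, LinearMap.ker_eq_bot']
    rintro ⟨y, hy⟩ h
    simp only [LinearMap.comp_apply, Submodule.subtype_apply, Submodule.mkQ_apply,
      Submodule.Quotient.mk_eq_zero, hT] at h
    obtain ⟨w, hw, z, hz, hwz⟩ := Submodule.mem_sup.1 h
    obtain ⟨c, rfl⟩ := Submodule.mem_span_singleton.1 hz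
    have hc : c = 0 := by
      have := congrArg d.ε hwz
      simpa [hWε hy.2, hWε (hW2 hw)] using this
    subst hc
    rw [zero_smul, add_zero] at hwz
    subst hwz
    exact Subtype.ext ((Submodule.eq_bot_iff _).1 hdisj w ⟨hy, hw⟩)
  obtain ⟨g, hg⟩ := LinearMap.exists_leftInverse_of_injective _ (LinearMap.ker_eq_bot.2 hginj)
  set r := finrank k U
  let bU : Basis (Fin r) k U := finBasis k U
  let x : Fin r → B := fun j => ⟨(bU j : R), hWB (bU j).2.2⟩
  let φ : Fin r → (R →ₗ[k] k) := fun i => bU.coord i ∘ₗ g ∘ₗ T.mkQ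
  have hφT : ∀ i, ∀ y ∈ T, φ i y = 0 := fun i y hy => by
    simp [φ, (Submodule.Quotient.mk_eq_zero T).2 hy]
  have hφx : ∀ i j, φ i (x j : R) = if j = i then 1 else 0 := fun i j => by
    have := LinearMap.congr_fun hg (bU j)
    simp only [LinearMap.comp_apply, Submodule.subtype_apply, LinearMap.id_apply, Submodule.mkQ_apply] at this
    simp [φ, x, this, Finsupp.single_apply]
  have hD : ∀ i, ∃ D : Derivation k B B, ∀ y : B, d.ε (D y : R) = φ i (y : R) := fun i =>
    exists_derivation d hB (φ i) (hφT i 1 (Submodule.mem_sup_right (Submodule.mem_span_singleton_self 1)))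
      fun a ha b hb h1 h2 => hφT i _ (Submodule.mem_sup_left (Submodule.mul_mem_mul ⟨ha, h1⟩ ⟨hb, h2⟩))
  choose D hD using hD
  let M : Matrix (Fin r) (Fin r) B := Matrix.of fun i j => D i (x j)
  have hMu : IsUnit M.det := by
    have h1 : (d.ε.comp B.val) M.det = 1 := by
      show (d.ε.comp B.val).toRingHom M.det = 1
      rw [RingHom.map_det]
      have hone : (d.ε.comp B.val).toRingHom.mapMatrix M = 1 := by
        ext i j
        simp [M, hD, hφx, Matrix.one_apply, eq_comm]
      rw [hone, Matrix.det_one]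
    have hn : IsNilpotent (M.det - 1) := by
      obtain ⟨n, hn⟩ := d.nil ((M.det : R) - 1) (by
        rw [map_sub, map_one, sub_eq_zero]; exact h1)
      exact ⟨n, Subtype.ext (by simpa using hn)⟩
    simpa using hn.isUnit_add_one
  refine ⟨r, x, fun i => ∑ l, M⁻¹ i l • D l, fun i j => ?_, fun j => hWε (bU j).2.2, ?_⟩
  · have h := congrFun (congrFun (Matrix.nonsing_inv_mul M hMu) i) j
    rw [Matrix.mul_apply, Matrix.one_apply] at h
    have hsum : ∀ (c : Fin r → B) (y : B), (∑ l, c l • D l : Derivation k B B) y = ∑ l, c l * D l y := by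
      intro c y
      show Derivation.coeFnAddMonoidHom (∑ l, c l • D l) y = _
      rw [map_sum, Finset.sum_apply]
      rfl
    rw [hsum]
    simpa [M] using h
  · set S : Submodule k R := Subalgebra.toSubmodule (Algebra.adjoin k (Set.range fun j => (x j : R)))
    have hUS : U ≤ S := by
      intro y hy
      have : (⟨y, hy⟩ : U) ∈ Submodule.span k (Set.range bU) := by simp [bU.span_eq]
      have h2 := Submodule.apply_mem_span_image_of_mem_span U.subtype this
      rw [← Set.range_comp] at h2
      exact Algebra.span_le_adjoin k _ h2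
    have hpow : ∀ m : ℕ, U ^ m ≤ S := fun m => by
      induction m with
      | zero => rw [pow_zero, Submodule.one_le]; exact one_mem (Algebra.adjoin k _)
      | succ m ih =>
        rw [pow_succ]
        exact Submodule.mul_le.2 fun a ha b hb =>
          mul_mem (s := Algebra.adjoin k _) (ih ha) (hUS hb)
    have hstep : ∀ m : ℕ, 1 ≤ m → W ^ m ≤ U ^ m ⊔ W ^ (m + 1) := by
      intro m hm
      induction m, hm using Nat.le_induction with
      | base =>
        rw [pow_one, pow_one, pow_two, sup_comm, hUW]
      | succ m hm ih =>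
        calc W ^ (m + 1) = W ^ m * W := pow_succ W m
          _ ≤ (U ^ m ⊔ W ^ (m + 1)) * (W * W ⊔ U) := mul_le_mul' ih (hUW.symm.le)
          _ ≤ U ^ (m + 1) ⊔ W ^ (m + 1 + 1) := by
            rw [Submodule.sup_mul, Submodule.mul_sup, Submodule.mul_sup]
            refine sup_le (sup_le ?_ ?_) (sup_le ?_ ?_)
            · refine le_trans ?_ le_sup_right
              calc U ^ m * (W * W) ≤ W ^ m * (W * W) :=
                    mul_le_mul' (pow_le_pow_left' inf_le_right m) le_rfl
                _ = W ^ (m + 1 + 1) := by rw [← mul_assoc, ← pow_succ, ← pow_succ]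
            · rw [← pow_succ]; exact le_sup_left
            · refine le_trans ?_ le_sup_right
              calc W ^ (m + 1) * (W * W) = W ^ (m + 1 + 1) * W := by
                    rw [← mul_assoc, ← pow_succ]
                _ ≤ W ^ (m + 1 + 1) := by
                    rw [pow_succ _ (m + 1), mul_assoc]
                    exact mul_le_mul' le_rfl hW2
            · refine le_trans ?_ le_sup_right
              calc W ^ (m + 1) * U ≤ W ^ (m + 1) * W := mul_le_mul' le_rfl inf_le_right
                _ = _ := (pow_succ _ _).symm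
    obtain ⟨N, hN⟩ : IsNilpotent (RingHom.ker d.ε) := by
      haveI : IsNoetherianRing R := isNoetherian_of_tower k inferInstance
      exact (Ideal.FG.isNilpotent_iff_le_nilradical (IsNoetherian.noetherian (RingHom.ker d.ε))).2
        fun y hy => d.nil y hy
    have hWN : W ^ (N + 1) ≤ S := by
      have : W ^ (N + 1) ≤ ((RingHom.ker d.ε) ^ (N + 1)).restrictScalars k := by
        rw [Submodule.restrictScalars_pow (Nat.succ_ne_zero N)]
        exact pow_le_pow_left' (fun y hy => hWε hy) _
      refine this.trans ?_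
      rw [pow_succ, hN, zero_mul]
      simp
    have hWS : W ≤ S := by
      have : ∀ j ≤ N, W ^ (N + 1 - j) ≤ S := by
        intro j hj
        induction j with
        | zero => exact hWN
        | succ j ih =>
          have h1 := hstep (N + 1 - (j + 1)) (by omega)
          rw [show N + 1 - (j + 1) + 1 = N + 1 - j by omega] at h1
          exact h1.trans (sup_le (hpow _) (ih (by omega)))
      simpa using this N le_rfl
    rw [eq_top_iff]
    intro y _
    have hy : (y : R) ∈ S := by
      rw [show (y : R) = ((y : R) - algebraMap k R (d.ε y)) + algebraMap k R (d.ε y) by ring]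
      exact add_mem (hWS ⟨sub_mem y.2 (B.algebraMap_mem _), by simp⟩)
        (Subalgebra.algebraMap_mem _ _)
    have himg : Algebra.adjoin k (Set.range fun j => (x j : R))
        = (Algebra.adjoin k (Set.range x)).map B.val := by
      rw [AlgHom.map_adjoin, ← Set.range_comp]; rfl
    simp only [S, Subalgebra.mem_toSubmodule, himg] at hy
    obtain ⟨z, hz, hzy⟩ := hy
    rwa [← Subtype.ext hzy]

/-- one step -/
lemma finrank_adjoin_insert {B : Type v} [CommRing B] [Algebra k B] [Module.Finite k B] {p : ℕ}
    [Fact p.Prime] [CharP k p] (G : Set B) (x : B) (E : Derivation k B B)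
    (hxp : x ^ p ∈ Algebra.adjoin k G) (hG : ∀ g ∈ G, E g = 0) (hx : E x = 1) :
    finrank k (Algebra.adjoin k (insert x G)) = p * finrank k (Algebra.adjoin k G) := by
  set S := Algebra.adjoin k G
  have hS : ∀ c ∈ S, E c = 0 := fun c hc => by
    have := Derivation.eqOn_adjoin (D1 := E) (D2 := 0) (s := G) (fun g hg => by simpa using hG g hg) hc
    simpa using this
  have hpp : 0 < p := (Fact.out : p.Prime).pos
  let Θ : (Fin p → S) →ₗ[k] B :=
    ∑ j : Fin p, (LinearMap.mulRight k (x ^ (j : ℕ))) ∘ₗ S.val.toLinearMap ∘ₗ LinearMap.proj j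
  have hΘ : ∀ c, Θ c = ∑ j : Fin p, (c j : B) * x ^ (j : ℕ) := fun c => by simp [Θ]
  have hinj : Function.Injective Θ := by
    rw [← LinearMap.ker_eq_bot, LinearMap.ker_eq_bot']
    intro c hc
    rw [hΘ] at hc
    have key : ∀ n ≤ p, ∀ a : ℕ → B, (∀ j, a j ∈ S) →
        ∑ j ∈ Finset.range n, a j * x ^ j = 0 → ∀ j < n, a j = 0 := by
      intro n
      induction n with
      | zero => intro _ _ _ _ j hj; omega
      | succ n ih =>
        intro hn a ha h
        have hder : ∑ j ∈ Finset.range n, ((j + 1 : ℕ) • a (j + 1)) * x ^ j = 0 := by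
          have h' := congrArg E h
          rw [map_sum, map_zero, Finset.sum_range_succ'] at h'
          simp [Derivation.leibniz, Derivation.leibniz_pow, hx, hS _ (ha _)] at h'
          refine Eq.trans (Finset.sum_congr rfl fun i _ => ?_) h'
          rw [nsmul_eq_mul]; push_cast; ring
        have h2 := ih (by omega) (fun j => (j + 1 : ℕ) • a (j + 1))
          (fun j => nsmul_mem (ha _) _) hder
        have h3 : ∀ j < n, a (j + 1) = 0 := fun j hj => by
          have := h2 j hj
          rw [← Nat.cast_smul_eq_nsmul k] at this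
          refine (smul_eq_zero.1 this).resolve_left ?_
          simp only [ne_eq, CharP.cast_eq_zero_iff k p]
          exact Nat.not_dvd_of_pos_of_lt (Nat.succ_pos j) (by omega)
        intro j hj
        rcases j with _ | j
        · rw [Finset.sum_range_succ', Finset.sum_eq_zero (fun i hi => by
            rw [h3 i (Finset.mem_range.1 hi), zero_mul])] at h
          simpa using h
        · exact h3 j (by omega)
    funext j
    apply Subtype.ext
    have := key p le_rfl (fun i => if h : i < p then (c ⟨i, h⟩ : B) else 0)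
      (fun i => by by_cases h : i < p <;> simp [h]) (by
        rw [Finset.sum_range]
        simpa using hc) j j.2
    simpa using this
  have hrange : LinearMap.range Θ = Subalgebra.toSubmodule (Algebra.adjoin k (insert x G)) := by
    apply le_antisymm
    · rintro _ ⟨c, rfl⟩
      rw [hΘ, Subalgebra.mem_toSubmodule]
      exact sum_mem fun j _ => mul_mem (Algebra.adjoin_mono (Set.subset_insert _ _) (c j).2)
        (pow_mem (Algebra.subset_adjoin (Set.mem_insert _ _)) _)
    · have hmemS : ∀ s ∈ S, ∀ i < p, s * x ^ i ∈ LinearMap.range Θ := by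
        intro s hs i hi
        refine ⟨Pi.single ⟨i, hi⟩ ⟨s, hs⟩, ?_⟩
        rw [hΘ, Finset.sum_eq_single (⟨i, hi⟩ : Fin p)]
        · simp
        · intro b _ hb; simp [Pi.single_eq_of_ne hb]
        · simp
      let T : Subalgebra k B :=
        { carrier := {b | ∀ z ∈ LinearMap.range Θ, b * z ∈ LinearMap.range Θ}
          mul_mem' := fun {a b} ha hb z hz => by rw [mul_assoc]; exact ha _ (hb z hz)
          add_mem' := fun {a b} ha hb z hz => by rw [add_mul]; exact add_mem (ha z hz) (hb z hz)
          algebraMap_mem' := fun c z hz => by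
            rw [← Algebra.smul_def]; exact Submodule.smul_mem _ _ hz }
      have hT : Algebra.adjoin k (insert x G) ≤ T := by
        refine Algebra.adjoin_le ?_
        rintro b hb z ⟨c, rfl⟩
        rw [hΘ, Finset.mul_sum]
        refine sum_mem fun j _ => ?_
        rcases hb with rfl | hb
        · rw [mul_left_comm, ← pow_succ']
          rcases lt_or_eq_of_le (Nat.succ_le_of_lt j.2) with h | h
          · exact hmemS _ (c j).2 _ h
          · rw [show (j : ℕ) + 1 = p from h]
            simpa using hmemS _ (mul_mem (c j).2 hxp) 0 hpp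
        · rw [← mul_assoc]
          exact hmemS _ (mul_mem (Algebra.subset_adjoin hb) (c j).2) _ j.2
      intro b hb
      have := hT hb 1 (by simpa using hmemS 1 (one_mem S) 0 hpp)
      simpa using this
  calc finrank k (Algebra.adjoin k (insert x G)) = finrank k (LinearMap.range Θ) := by rw [hrange]; rfl
    _ = finrank k (Fin p → S) := (LinearEquiv.ofInjective Θ hinj).finrank_eq.symm
    _ = _ := by rw [Module.finrank_pi_fintype]; simp

include d in
lemma finrank_bot_of_coords_zero {B : Subalgebra k R} {x : Fin 0 → B}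
    (hgen : Algebra.adjoin k (Set.range x) = ⊤) : finrank k B = 1 := by
  haveI : Nontrivial R := (⟨⟨0, 1, fun h => zero_ne_one (α := k) (by simpa using congrArg d.ε h)⟩⟩ : Nontrivial R)
  rw [Set.range_eq_empty, Algebra.adjoin_empty] at hgen
  rw [← Subalgebra.topEquiv.toLinearEquiv.finrank_eq, ← hgen]
  exact Subalgebra.finrank_bot

theorem finrank_eq_one_of_charZero (d : Datum k R) [CharZero k] : finrank k R = 1 := by
  have hst : Stable d ⊤ := fun x _ => by
    show d.δ x ∈ _
    induction d.δ x using TensorProduct.induction_on with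
    | zero => exact zero_mem _
    | tmul a b => exact ⟨(⟨a, trivial⟩ : (⊤ : Subalgebra k R)) ⊗ₜ ⟨b, trivial⟩, rfl⟩
    | add s t hs ht => exact add_mem hs ht
  obtain ⟨r, x, E, hE, hx0, hgen⟩ := exists_coords d hst
  rcases Nat.eq_zero_or_pos r with rfl | hr
  · rw [← Subalgebra.topEquiv.toLinearEquiv.finrank_eq]
    exact finrank_bot_of_coords_zero d hgen
  exfalso
  set i : Fin r := ⟨0, hr⟩
  have hex : ∃ n, x i ^ n = 0 := by
    obtain ⟨n, hn⟩ := d.nil _ (hx0 i)
    exact ⟨n, Subtype.ext hn⟩
  classical
  have h0 : x i ^ (Nat.find hex) = 0 := Nat.find_spec hex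
  haveI : Nontrivial R := (⟨⟨0, 1, fun h => zero_ne_one (α := k) (by simpa using congrArg d.ε h)⟩⟩ : Nontrivial R)
  obtain ⟨n, hn⟩ : ∃ n, Nat.find hex = n + 1 := by
    rcases hN : Nat.find hex with _ | n
    · rw [hN, pow_zero] at h0; exact absurd h0 one_ne_zero
    · exact ⟨n, rfl⟩
  rw [hn] at h0
  have h1 := congrArg (E i) h0
  rw [map_zero, Derivation.leibniz_pow, hE, if_pos rfl, Nat.add_sub_cancel, smul_eq_mul, mul_one,
    ← Nat.cast_smul_eq_nsmul k, smul_eq_zero] at h1
  exact Nat.find_min hex (m := n) (by omega) (h1.resolve_left (by exact_mod_cast Nat.succ_ne_zero n))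

theorem exists_finrank_eq_pow (d : Datum k R) (p : ℕ) [Fact p.Prime] [CharP k p] [PerfectRing k p] :
    ∃ s, finrank k R = p ^ s := by
  classical
  haveI : Nontrivial R := (⟨⟨0, 1, fun h => zero_ne_one (α := k) (by simpa using congrArg d.ε h)⟩⟩ : Nontrivial R)
  haveI : CharP R p := charP_of_injective_algebraMap (algebraMap k R).injective p
  haveI : Nontrivial (R ⊗[k] R) :=
    ⟨⟨0, 1, fun h => zero_ne_one (α := k) (by
      simpa using congrArg (Algebra.TensorProduct.lift d.ε d.ε fun _ _ => Commute.all _ _) h)⟩⟩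
  haveI : CharP (R ⊗[k] R) p := charP_of_injective_algebraMap (algebraMap k _).injective p
  suffices h : ∀ n (B : Subalgebra k R), Stable d B → finrank k B = n → ∃ s, n = p ^ s by
    obtain ⟨s, hs⟩ := h _ ⊤ (fun x _ => by
      show d.δ x ∈ _
      induction d.δ x using TensorProduct.induction_on with
      | zero => exact zero_mem _
      | tmul a b => exact ⟨(⟨a, trivial⟩ : (⊤ : Subalgebra k R)) ⊗ₜ ⟨b, trivial⟩, rfl⟩
      | add s t hs ht => exact add_mem hs ht) rfl
    exact ⟨s, by rw [← Subalgebra.topEquiv.toLinearEquiv.finrank_eq, hs]⟩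
  intro n
  induction n using Nat.strong_induction_on with
  | _ n ih =>
  intro B hB hn
  obtain ⟨r, x, E, hE, -, hgen⟩ := exists_coords d hB
  rcases Nat.eq_zero_or_pos r with rfl | hr
  · exact ⟨0, by rw [pow_zero, ← hn]; exact finrank_bot_of_coords_zero d hgen⟩
  haveI : CharP B p := charP_of_injective_algebraMap (algebraMap k B).injective p
  let C : Subalgebra k B :=
    { carrier := {y | ∃ z, z ^ p = y}
      mul_mem' := fun {a b} ⟨z, hz⟩ ⟨w, hw⟩ => ⟨z * w, by rw [mul_pow, hz, hw]⟩
      add_mem' := fun {a b} ⟨z, hz⟩ ⟨w, hw⟩ => ⟨z + w, by rw [add_pow_char, hz, hw]⟩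
      algebraMap_mem' := fun c => ⟨algebraMap k B ((frobeniusEquiv k p).symm c), by
        rw [← map_pow, frobeniusEquiv_symm_pow_p]⟩ }
  have hC : Algebra.adjoin k (C : Set B) = C := Algebra.adjoin_eq C
  let G : ℕ → Set B := fun i => (C : Set B) ∪ {y | ∃ j : Fin r, (j : ℕ) < i ∧ x j = y}
  have hchain : ∀ i ≤ r, finrank k (Algebra.adjoin k (G i)) = p ^ i * finrank k C := by
    intro i
    induction i with
    | zero =>
      intro _
      have hG0 : G 0 = (C : Set B) := by simp [G]
      rw [hG0, hC, pow_zero, one_mul]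
    | succ i ihi =>
      intro hi
      have hG : G (i + 1) = insert (x ⟨i, hi⟩) (G i) := by
        ext y
        simp only [G, Set.mem_union, Set.mem_insert_iff, Set.mem_setOf_eq]
        constructor
        · rintro (h | ⟨j, hj, rfl⟩)
          · exact .inr (.inl h)
          · rcases Nat.lt_succ_iff_lt_or_eq.1 hj with h | h
            · exact .inr (.inr ⟨j, h, rfl⟩)
            · exact .inl (congrArg x (Fin.ext h))
        · rintro (rfl | h | ⟨j, hj, rfl⟩)
          · exact .inr ⟨_, Nat.lt_succ_self i, rfl⟩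
          · exact .inl h
          · exact .inr ⟨j, Nat.lt_succ_of_lt hj, rfl⟩
      rw [hG, finrank_adjoin_insert (p := p) (G i) (x ⟨i, hi⟩) (E ⟨i, hi⟩), ihi (by omega), pow_succ]
      · ring
      · exact Algebra.subset_adjoin (Or.inl ⟨_, rfl⟩)
      · rintro g (⟨z, rfl⟩ | ⟨j, hj, rfl⟩)
        · rw [Derivation.leibniz_pow, ← Nat.cast_smul_eq_nsmul k, CharP.cast_eq_zero, zero_smul]
        · rw [hE, if_neg (fun h => by rw [← h] at hj; exact lt_irrefl _ hj)]
      · rw [hE, if_pos rfl]
  have hfull : Algebra.adjoin k (G r) = ⊤ := by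
    rw [eq_top_iff, ← hgen]
    exact Algebra.adjoin_mono (by rintro _ ⟨j, rfl⟩; exact Or.inr ⟨j, j.2, rfl⟩)
  have hdim := hchain r le_rfl
  rw [hfull, Subalgebra.topEquiv.toLinearEquiv.finrank_eq, hn] at hdim
  let B' : Subalgebra k R := C.map B.val
  have hB'dim : finrank k B' = finrank k C :=
    (Subalgebra.equivMapOfInjective C B.val Subtype.val_injective).toLinearEquiv.finrank_eq.symm
  have hB' : Stable d B' := by
    rintro _ ⟨y, ⟨z, rfl⟩, rfl⟩
    show d.δ _ ∈ _
    obtain ⟨u, hu⟩ := hB z z.2
    change Algebra.TensorProduct.map B.val B.val u = d.δ z at hu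
    simp only [map_pow]
    show d.δ ((z : B) : R) ^ p ∈ _
    rw [← hu]
    clear hu
    induction u using TensorProduct.induction_on with
    | zero => rw [map_zero, zero_pow (Fact.out : p.Prime).ne_zero]; exact zero_mem _
    | add s t hs ht => rw [map_add, add_pow_char]; exact add_mem hs ht
    | tmul a b =>
      exact ⟨(⟨(a : R) ^ p, a ^ p, ⟨a, rfl⟩, map_pow B.val a p⟩ : B') ⊗ₜ
          ⟨(b : R) ^ p, b ^ p, ⟨b, rfl⟩, map_pow B.val b p⟩,
        by simp [Algebra.TensorProduct.tmul_pow]⟩
  haveI : Nontrivial C := inferInstance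
  have hpos : 0 < finrank k C := Module.finrank_pos
  have hlt : finrank k C < n := by
    rw [hdim]
    exact lt_mul_of_one_lt_left hpos (Nat.one_lt_pow hr.ne' (Fact.out : p.Prime).one_lt)
  obtain ⟨s, hs⟩ := ih _ hlt B' hB' hB'dim
  exact ⟨r + s, by rw [hdim, hs, pow_add]⟩

end Groth.Agent.FinHopf
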