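import Groth.Prelude.Def_AlphaP
import Groth.Prelude.Def_ConstGrp
import Groth.Agent.OTLib.Field
import Groth.Agent.SigmaLang.Basic
import Mathlib.RingTheory.Bialgebra.MonoidAlgebra
import Mathlib.RingTheory.TensorProduct.Maps
import Mathlib.FieldTheory.Finite.Basic
import Mathlib.RingTheory.Bialgebra.Equiv

/-!
# Surjections of a non-reduced finite group scheme's algebra onto those of μ_p or α_p

From a counit derivation `φ` with `φ^p = 0` or `φ^p = φ` in the convolution algebra.
-/

noncomputable section

set_option autoImplicit false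
set_option maxSynthPendingDepth 3

namespace Groth.Agent.FinHopf.MuAlpha

open TensorProduct WithConv Coalgebra Polynomial

universe u v w

variable {k : Type u} [Field k] {A : Type v} [CommRing A] [HopfAlgebra k A]

local notation "C" => WithConv (A →ₗ[k] k)

/-- counit derivations -/
def IsDer (φ : WithConv (A →ₗ[k] k)) : Prop :=
  ∀ a b, φ (a * b) = φ a * counit (R := k) b + counit (R := k) a * φ b

theorem conv_apply (ψ φ : WithConv (A →ₗ[k] k)) (a : A) : (ψ * φ) a = ψ (OTLib.deriv φ.ofConv a) := by
  rw [← OTLib.conv_apply_eq, WithConv.toConv_ofConv]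

theorem dual_ext {x y : A} (h : ∀ θ : WithConv (A →ₗ[k] k), θ x = θ y) : x = y := by
  rw [← sub_eq_zero]
  refine (Module.forall_dual_apply_eq_zero_iff k _).1 fun θ => ?_
  rw [map_sub, sub_eq_zero]
  exact h (toConv θ)

/-- `φ ↦ (a ↦ Σ φ(a₂) a₁)` -/
def derivHom : WithConv (A →ₗ[k] k) →ₐ[k] Module.End k A :=
  AlgHom.ofLinearMap
    { toFun := fun (φ : C) => OTLib.deriv φ.ofConv
      map_add' := fun (φ ψ : C) => LinearMap.ext fun a => dual_ext fun θ => by
        rw [← conv_apply, mul_add]
        simp only [WithConv.ofConv_add, LinearMap.add_apply, map_add, ← conv_apply]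
      map_smul' := fun c (φ : C) => LinearMap.ext fun a => dual_ext fun θ => by
        rw [← conv_apply, mul_smul_comm]
        simp only [WithConv.ofConv_smul, LinearMap.smul_apply, map_smul, RingHom.id_apply, ← conv_apply] }
    (LinearMap.ext fun a => dual_ext fun θ => by
      show θ (OTLib.deriv (1 : C).ofConv a) = θ a
      rw [← conv_apply, mul_one])
    (fun φ ψ => LinearMap.ext fun a => dual_ext fun θ => by
      show θ (OTLib.deriv (φ * ψ).ofConv a) = θ (OTLib.deriv φ.ofConv (OTLib.deriv ψ.ofConv a))
      rw [← conv_apply, ← conv_apply, ← conv_apply, mul_assoc])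

theorem counit_derivHom (φ : WithConv (A →ₗ[k] k)) (a : A) : counit (R := k) (derivHom φ a) = φ a := by
  have h := conv_apply (k := k) (1 : C) φ a
  rw [one_mul] at h
  rw [h]
  simp [derivHom]

theorem derivHom_leibniz {φ : WithConv (A →ₗ[k] k)} (hφ : IsDer φ) (a b : A) :
    derivHom φ (a * b) = derivHom φ a * b + a * derivHom φ b :=
  OTLib.deriv_mul φ.ofConv hφ a b

/-- `D ⊗ 1` -/
def left (φ : WithConv (A →ₗ[k] k)) : Module.End k (A ⊗[k] A) :=
  Module.End.rTensorAlgHom k A A (derivHom φ)

/-- `1 ⊗ D` -/
def right (φ : WithConv (A →ₗ[k] k)) : Module.End k (A ⊗[k] A) :=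
  Module.End.lTensorAlgHom k A A (derivHom φ)

@[simp] theorem left_tmul (φ : WithConv (A →ₗ[k] k)) (a b : A) :
    left φ (a ⊗ₜ[k] b) = derivHom φ a ⊗ₜ[k] b := rfl

@[simp] theorem right_tmul (φ : WithConv (A →ₗ[k] k)) (a b : A) :
    right φ (a ⊗ₜ[k] b) = a ⊗ₜ[k] derivHom φ b := rfl

theorem commute_left_right (φ ψ : WithConv (A →ₗ[k] k)) : Commute (left φ) (right ψ) := by
  refine TensorProduct.ext' fun a b => ?_
  rfl

theorem aeval_leibniz {φ : WithConv (A →ₗ[k] k)} (hφ : IsDer φ) (P : k[X]) (z : A ⊗[k] A) :
    LinearMap.mul' k A (aeval (left φ + right φ) P z) =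
      derivHom (aeval φ P) (LinearMap.mul' k A z) := by
  have h1 : ∀ z, LinearMap.mul' k A ((left φ + right φ) z) = derivHom φ (LinearMap.mul' k A z) := fun z => by
    induction z using TensorProduct.induction_on with
    | zero => simp
    | add s t hs ht => rw [map_add, map_add, hs, ht, map_add, map_add]
    | tmul a b => simp [derivHom_leibniz hφ]
  rw [← aeval_algHom_apply]
  induction P using Polynomial.induction_on' generalizing z with
  | add P Q hP hQ => simp only [map_add, LinearMap.add_apply, hP, hQ]
  | monomial n c =>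
    simp only [aeval_monomial, Algebra.algebraMap_eq_smul_one, smul_mul_assoc, one_mul,
      LinearMap.smul_apply, map_smul]
    congr 1
    induction n generalizing z with
    | zero => simp
    | succ n ih => simp only [pow_succ, Module.End.mul_apply, ih, h1]

/-- evaluation of a product -/
theorem apply_mul_of_aeval_add {φ : WithConv (A →ₗ[k] k)} (hφ : IsDer φ) (P : k[X]) {ι : Type w}
    (s : Finset ι) (Q R : ι → k[X])
    (h : aeval (left φ + right φ) P = ∑ i ∈ s, aeval (left φ) (Q i) * aeval (right φ) (R i)) (a b : A) :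
    aeval φ P (a * b) = ∑ i ∈ s, aeval φ (Q i) a * aeval φ (R i) b := by
  rw [← counit_derivHom, ← LinearMap.mul'_apply (R := k) (a := a) (b := b), ← aeval_leibniz hφ, h]
  simp only [LinearMap.sum_apply, map_sum]
  refine Finset.sum_congr rfl fun i _ => ?_
  rw [Module.End.mul_apply, left, right, aeval_algHom_apply, aeval_algHom_apply, aeval_algHom_apply,
    aeval_algHom_apply]
  show counit (R := k) (derivHom (aeval φ (Q i)) a * derivHom (aeval φ (R i)) b) = _
  simp [counit_derivHom, Bialgebra.counit_mul]

variable (p : ℕ) [hp : Fact p.Prime] [CharP k p]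

include hp in
theorem isDer_pow_char {φ : WithConv (A →ₗ[k] k)} (hφ : IsDer φ) : IsDer (φ ^ p) := by
  intro a b
  haveI : CharP (Module.End k (A ⊗[k] A)) p := by
    haveI : Nontrivial A := (Bialgebra.counitAlgHom k A).toRingHom.domain_nontrivial
    haveI : Nontrivial (A ⊗[k] A) := ((Algebra.TensorProduct.lmul' k (S := k)).comp
      (Algebra.TensorProduct.map (Bialgebra.counitAlgHom k A) (Bialgebra.counitAlgHom k A))).toRingHom.domain_nontrivial
    exact charP_of_injective_algebraMap (algebraMap k (Module.End k (A ⊗[k] A))).injective p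
  have h := apply_mul_of_aeval_add hφ (X ^ p) (Finset.univ : Finset (Fin 2))
    ![X ^ p, 1] ![1, X ^ p] (by
      simp [Fin.sum_univ_two, add_pow_char_of_commute _ (commute_left_right φ φ)]) a b
  simpa [Fin.sum_univ_two] using h

theorem exists_isDer_ne_zero [IsAlgClosed k] [Module.Finite k A] (hA : ¬ IsReduced A) :
    ∃ φ : WithConv (A →ₗ[k] k), IsDer φ ∧ φ ≠ 0 := by
  obtain ⟨d⟩ := FinHopf.exists_decomp (k := k) (A := A)
  let I : Ideal A := RingHom.ker (Bialgebra.counitAlgHom k A)
  have hI : ¬ I ≤ I * I := by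
    intro h
    have hn : ∀ n, I ≤ I ^ (n + 1) := fun n => by
      induction n with
      | zero => rw [pow_one]
      | succ n ih => rw [pow_succ]; exact h.trans (Ideal.mul_mono_left ih)
    have hspan : Ideal.span {d.e} = I := by
      refine le_antisymm (by rw [Ideal.span_le, Set.singleton_subset_iff]; exact d.eps_e) ?_
      rw [← d.span]
      rcases ht : d.t with _ | t
      · rw [pow_zero, Ideal.one_eq_top]; exact le_top
      · exact hn t
    apply hA
    refine ⟨fun x hx => ?_⟩
    refine (Module.forall_dual_apply_eq_zero_iff k x).1 fun θ => ?_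
    have hsurj : Function.Surjective (Bialgebra.counitAlgHom k A) := fun c =>
      ⟨algebraMap k A c, by simp⟩
    have h1 : Module.finrank k (A ⧸ Ideal.span {d.e}) = 1 := by
      rw [hspan, (Ideal.quotientKerAlgEquivOfSurjective hsurj).toLinearEquiv.finrank_eq, Module.finrank_self]
    have hdim := d.dim
    rw [h1, mul_one] at hdim
    haveI := d.pts
    haveI : Fintype (WithConv (A →ₐ[k] k)) := Fintype.ofFinite _
    have hli := (linearIndependent_algHom_toLinearMap k A k).comp
      (fun g : WithConv (A →ₐ[k] k) => g.ofConv) WithConv.ofConv_injective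
    have htop := hli.span_eq_top_of_card_eq_finrank' (by
      rw [Module.finrank_linearMap_self, hdim, Nat.card_eq_fintype_card])
    have hθ : θ ∈ (⊤ : Submodule k (A →ₗ[k] k)) := trivial
    rw [← htop] at hθ
    refine Submodule.span_induction (fun f hf => ?_) (by simp) (fun f g _ _ hf hg => by simp [hf, hg])
      (fun c f _ hf => by simp [hf]) hθ
    obtain ⟨g, rfl⟩ := hf
    exact (hx.map g.ofConv).eq_zero
  obtain ⟨x, hxI, hx⟩ := SetLike.not_le_iff_exists.1 hI
  let M : Submodule k A := (I * I).restrictScalars k ⊔ Submodule.span k {1}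
  have hxM : x ∉ M := fun h => by
    obtain ⟨w, hw, z, hz, hwz⟩ := Submodule.mem_sup.1 h
    obtain ⟨c, rfl⟩ := Submodule.mem_span_singleton.1 hz
    have hc : c = 0 := by
      have := congrArg (Bialgebra.counitAlgHom k A) hwz
      rw [map_add, map_smul, map_one, RingHom.mem_ker.1 (Ideal.mul_le_left hw : w ∈ I),
        RingHom.mem_ker.1 hxI, zero_add, smul_eq_mul, mul_one] at this
      exact this
    subst hc
    rw [zero_smul, add_zero] at hwz
    exact hx (hwz ▸ hw)
  obtain ⟨θ, hθx, hθM⟩ := Submodule.exists_dual_map_eq_bot_of_notMem hxM inferInstance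
  refine ⟨toConv θ, fun a b => ?_, fun h => hθx (congrArg (fun f : C => f x) h)⟩
  have h0 : ∀ m ∈ M, θ m = 0 := fun m hm => by
    have : θ m ∈ M.map θ := ⟨m, hm, rfl⟩
    rwa [hθM, Submodule.mem_bot] at this
  have h1 : θ 1 = 0 := h0 1 (Submodule.mem_sup_right (Submodule.mem_span_singleton_self _))
  let e := Bialgebra.counitAlgHom k A
  have h := h0 ((a - algebraMap k A (e a)) * (b - algebraMap k A (e b)))
    (Submodule.mem_sup_left (Ideal.mul_mem_mul (by simp [I, e]) (by simp [I, e])))
  have he : (a - algebraMap k A (e a)) * (b - algebraMap k A (e b))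
      = a * b - e a • b - e b • a + (e a * e b) • (1 : A) := by
    simp only [Algebra.smul_def, map_mul, mul_one]; ring
  rw [he, map_add, map_sub, map_sub, map_smul, map_smul, map_smul, h1] at h
  simp only [smul_eq_mul, mul_zero, add_zero, e, Bialgebra.counitAlgHom_apply] at h ⊢
  linear_combination h

theorem exists_isDer_pow [IsAlgClosed k] [Module.Finite k A] (hA : ¬ IsReduced A) :
    ∃ φ : WithConv (A →ₗ[k] k), IsDer φ ∧ φ ≠ 0 ∧ (φ ^ p = 0 ∨ φ ^ p = φ) := by
  obtain ⟨φ₀, hφ₀, hne⟩ := exists_isDer_ne_zero (k := k) hA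
  haveI : Nontrivial C := ⟨⟨_, _, hne⟩⟩
  haveI : CharP C p := charP_of_injective_algebraMap (algebraMap k C).injective p
  let V : Submodule k (A →ₗ[k] k) := Submodule.span k (Set.range fun i : ℕ => (φ₀ ^ p ^ i).ofConv)
  have hder : ∀ v ∈ V, IsDer (toConv v) := by
    intro v hv
    refine Submodule.span_induction ?_ ?_ ?_ ?_ hv
    · rintro _ ⟨i, rfl⟩
      show IsDer (φ₀ ^ p ^ i)
      induction i with
      | zero => simpa using hφ₀
      | succ i ih => simpa [pow_succ, pow_mul] using isDer_pow_char p ih
    · intro a b; simp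
    · intro f g _ _ hf hg a b
      have h1 := hf a b; have h2 := hg a b
      simp only [WithConv.ofConv_toConv, LinearMap.add_apply] at h1 h2 ⊢
      rw [h1, h2]; ring
    · intro c f _ hf a b
      have h1 := hf a b
      simp only [WithConv.ofConv_toConv, LinearMap.smul_apply, smul_eq_mul] at h1 ⊢
      rw [h1]; ring
  have hcom : ∀ v ∈ V, ∀ v' ∈ V, Commute (toConv v) (toConv v') := by
    intro v hv v' hv'
    refine Submodule.span_induction ?_ ?_ ?_ ?_ hv
    · rintro _ ⟨i, rfl⟩
      refine Submodule.span_induction ?_ ?_ ?_ ?_ hv'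
      · rintro _ ⟨j, rfl⟩
        exact Commute.pow_pow_self φ₀ _ _
      · rw [WithConv.toConv_zero]; exact Commute.zero_right _
      · intro f g _ _ hf hg
        rw [WithConv.toConv_add]; exact hf.add_right hg
      · intro c f _ hf
        rw [WithConv.toConv_smul]; exact hf.smul_right c
    · rw [WithConv.toConv_zero]; exact Commute.zero_left _
    · intro f g _ _ hf hg
      rw [WithConv.toConv_add]; exact hf.add_left hg
    · intro c f _ hf
      rw [WithConv.toConv_smul]; exact hf.smul_left c
  have hadd : ∀ v ∈ V, ∀ v' ∈ V,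
      (toConv (v + v') ^ p).ofConv = (toConv v ^ p).ofConv + (toConv v' ^ p).ofConv := by
    intro v hv v' hv'
    rw [WithConv.toConv_add, add_pow_char_of_commute _ (hcom v hv v' hv'), WithConv.ofConv_add]
  have hsmul : ∀ (c : k) (v : A →ₗ[k] k), (toConv (c • v) ^ p).ofConv = c ^ p • (toConv v ^ p).ofConv := by
    intro c v
    rw [WithConv.toConv_smul, _root_.smul_pow, WithConv.ofConv_smul]
  have hmem : ∀ v ∈ V, (toConv v ^ p).ofConv ∈ V := by
    intro v hv
    refine (Submodule.span_induction (p := fun x _ => x ∈ V ∧ (toConv x ^ p).ofConv ∈ V) ?_ ?_ ?_ ?_ hv).2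
    · rintro _ ⟨i, rfl⟩
      exact ⟨Submodule.subset_span ⟨i, rfl⟩, Submodule.subset_span ⟨i + 1, by simp [pow_succ, pow_mul]⟩⟩
    · exact ⟨zero_mem _, by rw [WithConv.toConv_zero, zero_pow hp.out.ne_zero]; exact zero_mem _⟩
    · intro f g _ _ hf hg
      exact ⟨add_mem hf.1 hg.1, by rw [hadd f hf.1 g hg.1]; exact add_mem hf.2 hg.2⟩
    · intro c f _ hf
      exact ⟨V.smul_mem c hf.1, by rw [hsmul]; exact V.smul_mem _ hf.2⟩
  let T : V →ₛₗ[frobenius k p] V :=
    { toFun := fun v => ⟨(toConv v.1 ^ p).ofConv, hmem v.1 v.2⟩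
      map_add' := fun v v' => Subtype.ext (hadd v.1 v.2 v'.1 v'.2)
      map_smul' := fun c v => Subtype.ext (hsmul c v.1) }
  have hφ₀V : φ₀.ofConv ∈ V := Submodule.subset_span ⟨0, by simp⟩
  haveI : Nontrivial V := ⟨⟨⟨_, hφ₀V⟩, 0, fun h => hne (WithConv.ext (congrArg Subtype.val h))⟩⟩
  by_cases hinj : ∀ v, T v = 0 → v = 0
  · let b := Module.finBasis k V
    have hli : LinearIndependent k (fun i => T (b i)) := by
      rw [Fintype.linearIndependent_iff]
      intro g hg i
      obtain ⟨r, hr⟩ : ∃ r : Fin (Module.finrank k V) → k, ∀ i, r i ^ p = g i :=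
        ⟨fun i => Classical.choose (IsAlgClosed.exists_pow_nat_eq (g i) hp.out.pos), fun i =>
          Classical.choose_spec (IsAlgClosed.exists_pow_nat_eq (g i) hp.out.pos)⟩
      have h0 : T (∑ i, r i • b i) = 0 := by
        rw [map_sum, ← hg]
        refine Finset.sum_congr rfl fun j _ => ?_
        rw [map_smulₛₗ, frobenius_def, hr]
      have := Fintype.linearIndependent_iff.1 b.linearIndependent r (hinj _ h0) i
      rw [← hr i, this, zero_pow hp.out.ne_zero]
    have h1 : Submodule.span k (Set.range ⇑T) = ⊤ :=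
      top_unique ((hli.span_eq_top_of_card_eq_finrank' (by simp)).ge.trans
        (Submodule.span_mono (by rintro _ ⟨i, rfl⟩; exact ⟨b i, rfl⟩)))
    obtain ⟨w, hw0, hw⟩ := SigmaLang.exists_fixed_ne_zero T h1
      (SigmaLang.twistRoots_powq p one_pos fun x => by rw [pow_one, frobenius_def])
    exact ⟨toConv w.1, hder _ w.2, fun h => hw0 (Subtype.ext (congrArg WithConv.ofConv h)),
      Or.inr (WithConv.ext (congrArg Subtype.val hw))⟩
  · push Not at hinj
    obtain ⟨w, hw, hw0⟩ := hinj
    exact ⟨toConv w.1, hder _ w.2, fun h => hw0 (Subtype.ext (congrArg WithConv.ofConv h)),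
      Or.inl (WithConv.ext (congrArg Subtype.val hw))⟩

/-- A bialgebra map out of `A` from functionals attached to elements of `B`. -/
theorem exists_bialgHom {B : Type w} [CommRing B] [Bialgebra k B] {ι : Type} [Fintype ι]
    (b : ι → B) (π : ι → WithConv (A →ₗ[k] k))
    (hone : ∑ i, π i 1 • b i = 1)
    (hmul : ∀ x y, ∑ n, π n (x * y) • b n = ∑ i, ∑ j, (π i x * π j y) • (b i * b j))
    (hcounit : ∀ x, ∑ i, π i x * counit (R := k) (b i) = counit (R := k) x)
    (hcomul : ∀ x, ∑ i, π i x • comul (R := k) (b i) = ∑ i, ∑ j, (π i * π j) x • (b i ⊗ₜ[k] b j)) :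
    ∃ f : A →ₐc[k] B, ∀ x, f x = ∑ i, π i x • b i := by
  classical
  let f : A →ₐ[k] B := AlgHom.ofLinearMap (∑ i, (π i).ofConv.smulRight (b i))
    (by simpa using hone) (fun x y => by
      simp only [LinearMap.sum_apply, LinearMap.smulRight_apply, hmul, Finset.sum_mul_sum,
        smul_mul_smul_comm])
  have hf : ∀ x, f x = ∑ i, π i x • b i := fun x => by simp [f]
  refine ⟨BialgHom.ofAlgHom f (AlgHom.ext fun x => ?_) (AlgHom.ext fun x => ?_), hf⟩
  · rw [AlgHom.comp_apply, hf, map_sum]
    simp [hcounit]
  · rw [AlgHom.comp_apply, AlgHom.comp_apply, hf, map_sum]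
    simp only [map_smul, Bialgebra.comulAlgHom_apply, hcomul]
    have key : ∀ z : A ⊗[k] A, Algebra.TensorProduct.map f f z =
        ∑ i, ∑ j, LinearMap.mul' k k (TensorProduct.map (π i).ofConv (π j).ofConv z) • (b i ⊗ₜ[k] b j) := by
      intro z
      induction z using TensorProduct.induction_on with
      | zero => simp
      | add s t hs ht => simp only [map_add, hs, ht, add_smul, Finset.sum_add_distrib]
      | tmul s t =>
        rw [Algebra.TensorProduct.map_tmul, hf, hf, TensorProduct.sum_tmul]
        simp only [TensorProduct.tmul_sum, TensorProduct.smul_tmul_smul, TensorProduct.map_tmul,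
          LinearMap.mul'_apply]
    exact key _

theorem surjective_of_linearIndependent {B : Type w} [AddCommGroup B] [Module k B] [Module.Finite k A]
    {ι : Type} [Fintype ι] (b : ι → B) (hb : Submodule.span k (Set.range b) = ⊤)
    (π : ι → WithConv (A →ₗ[k] k)) (hπ : LinearIndependent k π) (f : A → B)
    (hf : ∀ x, f x = ∑ i, π i x • b i) : Function.Surjective f := by
  have hpi : Function.Surjective (LinearMap.pi fun i => (π i).ofConv) := by
    rw [← LinearMap.dualMap_injective_iff, injective_iff_map_eq_zero]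
    intro θ hθ
    classical
    have h : ∀ x, ∑ i, θ (Pi.single i 1) * π i x = 0 := fun x => by
      have := LinearMap.congr_fun hθ x
      rw [LinearMap.dualMap_apply, LinearMap.zero_apply, pi_eq_sum_univ' (LinearMap.pi _ x), map_sum] at this
      refine Eq.trans (Finset.sum_congr rfl fun i _ => ?_) this
      rw [map_smul, smul_eq_mul, mul_comm, LinearMap.pi_apply]
    have h0 := Fintype.linearIndependent_iff.1 hπ (fun i => θ (Pi.single i 1))
      (WithConv.ext (LinearMap.ext fun x => by simpa using h x))
    refine LinearMap.pi_ext fun i c => ?_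
    have : θ (Pi.single i c) = c * θ (Pi.single i 1) := by
      rw [← smul_eq_mul, ← map_smul, ← Pi.single_smul', smul_eq_mul, mul_one]
    rw [this, h0 i, mul_zero, LinearMap.zero_apply]
  intro y
  have hy : y ∈ Submodule.span k (Set.range b) := by rw [hb]; trivial
  obtain ⟨c, hc⟩ := (Submodule.mem_span_range_iff_exists_fun k).1 hy
  obtain ⟨x, hx⟩ := hpi c
  refine ⟨x, ?_⟩
  rw [hf, ← hc]
  exact Finset.sum_congr rfl fun i _ => by rw [← congrFun hx i]; rfl

theorem sum_range_antidiagonal {M : Type*} [AddCommMonoid M] (n : ℕ) (g : ℕ → ℕ → M)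
    (hg : ∀ i j, n ≤ i + j → g i j = 0) :
    ∑ m ∈ Finset.range n, ∑ ij ∈ Finset.HasAntidiagonal.antidiagonal m, g ij.1 ij.2 =
      ∑ i : Fin n, ∑ j : Fin n, g i j := by
  classical
  have h : ∑ i : Fin n, ∑ j : Fin n, g i j =
      ∑ ij ∈ (Finset.range n ×ˢ Finset.range n).filter (fun ij => ij.1 + ij.2 < n), g ij.1 ij.2 := by
    rw [Finset.sum_filter_of_ne fun ij _ h => not_le.1 fun hle => h (hg _ _ hle), Finset.sum_product,
      ← Fin.sum_univ_eq_sum_range (fun i => ∑ j ∈ Finset.range n, g i j)]
    exact Finset.sum_congr rfl fun i _ => Fin.sum_univ_eq_sum_range (fun j => g i j) n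
  rw [h, Finset.sum_sigma']
  refine Finset.sum_bij' (fun s _ => s.2) (fun ij _ => ⟨ij.1 + ij.2, ij⟩) ?_ ?_ ?_ ?_ ?_
  · rintro ⟨m, i, j⟩ hs
    simp only [Finset.mem_sigma, Finset.mem_range, Finset.HasAntidiagonal.mem_antidiagonal] at hs
    simp only [Finset.mem_filter, Finset.mem_product, Finset.mem_range]
    omega
  · rintro ⟨i, j⟩ hs
    simp only [Finset.mem_filter] at hs
    simp [hs.2]
  · rintro ⟨m, i, j⟩ hs
    simp only [Finset.mem_sigma, Finset.mem_range, Finset.HasAntidiagonal.mem_antidiagonal] at hs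
    obtain ⟨-, rfl⟩ := hs
    rfl
  · rintro ⟨i, j⟩ _
    rfl
  · rintro ⟨m, i, j⟩ _
    rfl

include hp in
theorem exists_witness {φ : WithConv (A →ₗ[k] k)} (hφ : IsDer φ) (hne : φ ≠ 0) :
    LinearIndependent k (fun j : Fin p => (φ ^ (j : ℕ) : WithConv (A →ₗ[k] k))) := by
  obtain ⟨a, ha⟩ : ∃ a, φ a ≠ 0 := by
    by_contra! h
    exact hne (WithConv.ext (LinearMap.ext fun a => by simpa using h a))
  have h1 : φ 1 = 0 := by simpa using hφ 1 1
  let x : A := (φ a)⁻¹ • (a - algebraMap k A (counit (R := k) a))
  have hx : counit (R := k) x = 0 := by simp [x]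
  have hφx : φ x = 1 := by
    simp [x, Algebra.algebraMap_eq_smul_one, h1, ha]
  have h := (OTLib.linearIndependent_pows (φ := φ.ofConv) hp.out (CharP.cast_eq_zero k p) hφ hx hφx).2
  simpa only [WithConv.toConv_ofConv] using h

/-- `α_p`. -/
theorem exists_alphaP [Module.Finite k A] {φ : WithConv (A →ₗ[k] k)} (hφ : IsDer φ) (hne : φ ≠ 0)
    (h0 : φ ^ p = 0) : ∃ f : A →ₐc[k] AlphaP.A p k, Function.Surjective f := by
  classical
  have hfac : ∀ n : ℕ, n < p → ((n.factorial : ℕ) : k) ≠ 0 := fun n hn h => by
    rw [CharP.cast_eq_zero_iff k p, hp.out.dvd_factorial] at h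
    omega
  let P : ℕ → k[X] := fun n => Polynomial.C ((n.factorial : k)⁻¹) * X ^ n
  let π : ℕ → C := fun n => aeval φ (P n)
  have hπ : ∀ n, π n = (n.factorial : k)⁻¹ • φ ^ n := fun n => by
    simp [π, P, Algebra.algebraMap_eq_smul_one]
  have hπ0 : ∀ x, π 0 x = counit (R := k) x := fun x => by simp [hπ]
  have hφn : ∀ n, p ≤ n → φ ^ n = 0 := fun n hn => pow_eq_zero_of_le hn h0
  have hLeib : ∀ n, n < p → ∀ x y, π n (x * y) = ∑ i ∈ Finset.HasAntidiagonal.antidiagonal n, π i.1 x * π i.2 y := by
    intro n hn x y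
    refine apply_mul_of_aeval_add hφ (P n) (Finset.HasAntidiagonal.antidiagonal n) (fun i => P i.1) (fun i => P i.2) ?_ x y
    simp only [P, map_mul, map_pow, aeval_C, aeval_X, (commute_left_right φ φ).add_pow',
      Finset.mul_sum]
    refine Finset.sum_congr rfl fun i hi => ?_
    rw [Finset.HasAntidiagonal.mem_antidiagonal] at hi
    have hc : (n.factorial : k)⁻¹ * (n.choose i.1 : k) = (i.1.factorial : k)⁻¹ * (i.2.factorial : k)⁻¹ := by
      have h := congrArg (Nat.cast (R := k))
        (Nat.choose_mul_factorial_mul_factorial (show i.1 ≤ n by omega))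
      rw [show n - i.1 = i.2 by omega, Nat.cast_mul, Nat.cast_mul] at h
      have := hfac _ hn; have := hfac i.1 (by omega); have := hfac i.2 (by omega)
      field_simp
      linear_combination h
    simp only [nsmul_eq_mul, ← map_natCast (algebraMap k (Module.End k (A ⊗[k] A))),
      Algebra.algebraMap_eq_smul_one, smul_mul_smul_comm, smul_mul_assoc, one_mul, mul_smul_comm,
      smul_smul]
    rw [mul_comm ((n.choose i.1 : k)) _] 
    simp only [hc, mul_comm]
  let b : Fin p → AlphaP.A p k := fun i => AlphaP.x p k ^ (i : ℕ)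
  have hb : ∀ n, p ≤ n → AlphaP.x p k ^ n = 0 := fun n => AlphaP.x_pow_of_le p k
  refine (exists_bialgHom b (fun i : Fin p => π i) ?_ ?_ ?_ ?_).elim fun f hf => ?_
  rotate_left 4
  · refine ⟨f, surjective_of_linearIndependent b ?_ _ ?_ f hf⟩
    · rw [← (AlphaP.basis p k).span_eq]
      congr 1
      ext1 y
      simp [b]
    · have := (exists_witness p hφ hne).units_smul fun i : Fin p => (Units.mk0 _ (hfac i i.2))⁻¹
      convert this using 1
      funext i
      rw [hπ]; rfl
  · rw [Finset.sum_eq_single ⟨0, hp.out.pos⟩]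
    · simp [b, hπ0]
    · intro i _ hi
      obtain ⟨j, hj⟩ : ∃ j, (i : ℕ) = j + 1 := ⟨i - 1, by have : (i : ℕ) ≠ 0 := fun h => hi (Fin.ext h); omega⟩
      have hd1 : derivHom φ (1 : A) = 0 := by
        have := derivHom_leibniz hφ 1 1
        simpa using this
      have : (φ ^ (j + 1)) 1 = 0 := by
        rw [← counit_derivHom, map_pow, pow_succ, Module.End.mul_apply, hd1, map_zero, map_zero]
      simp [hj, hπ, this]
    · simp
  · intro x y
    simp only [b, ← pow_add]
    rw [← sum_range_antidiagonal p (fun i j => (π i x * π j y) • AlphaP.x p k ^ (i + j))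
      fun i j h => by rw [hb _ h, smul_zero],
      Fin.sum_univ_eq_sum_range (fun n => π n (x * y) • AlphaP.x p k ^ n)]
    refine Finset.sum_congr rfl fun n hn => ?_
    rw [hLeib n (Finset.mem_range.1 hn), Finset.sum_smul]
    refine Finset.sum_congr rfl fun i hi => ?_
    rw [Finset.HasAntidiagonal.mem_antidiagonal.1 hi]
  · intro x
    rw [Finset.sum_eq_single ⟨0, hp.out.pos⟩]
    · simp [b, hπ0]
    · intro i _ hi
      have : (i : ℕ) ≠ 0 := fun h => hi (Fin.ext h)
      simp [b, Bialgebra.counit_pow, zero_pow this]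
    · simp
  · intro x
    have hΔ : ∀ n, comul (R := k) (AlphaP.x p k ^ n) =
        ∑ i ∈ Finset.HasAntidiagonal.antidiagonal n,
          (n.choose i.1 : k) • ((AlphaP.x p k ^ i.1) ⊗ₜ[k] (AlphaP.x p k ^ i.2)) := fun n => by
      rw [Bialgebra.comul_pow, AlphaP.comul_x, (Commute.all _ _).add_pow']
      refine Finset.sum_congr rfl fun i _ => ?_
      simp [Algebra.TensorProduct.tmul_pow, Nat.cast_smul_eq_nsmul]
    have hbig : ∀ i j : ℕ, p ≤ i + j → π i * π j = 0 := fun i j h => by
      rw [hπ i, hπ j, smul_mul_smul_comm, ← pow_add, hφn _ h, smul_zero]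
    have hmulπ : ∀ i j : ℕ, i + j < p →
        π (i + j) x * ((i + j).choose i : k) = (π i * π j) x := by
      intro i j h
      rw [hπ i, hπ j, smul_mul_smul_comm, ← pow_add, hπ]
      have hc := congrArg (Nat.cast (R := k)) (Nat.choose_mul_factorial_mul_factorial (Nat.le_add_right i j))
      rw [Nat.add_sub_cancel_left, Nat.cast_mul, Nat.cast_mul] at hc
      simp only [WithConv.ofConv_smul, LinearMap.smul_apply, smul_eq_mul]
      have := hfac _ h; have := hfac i (by omega); have := hfac j (by omega)
      field_simp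
      linear_combination ((φ ^ (i + j)) x) * hc
    simp only [b]
    rw [← sum_range_antidiagonal p
        (fun i j => (π i * π j) x • ((AlphaP.x p k ^ i) ⊗ₜ[k] (AlphaP.x p k ^ j)))
        (fun i j h => by rw [hbig i j h]; simp),
      Fin.sum_univ_eq_sum_range (fun n => π n x • comul (R := k) (AlphaP.x p k ^ n))]
    refine Finset.sum_congr rfl fun n hn => ?_
    rw [hΔ, Finset.smul_sum]
    refine Finset.sum_congr rfl fun i hi => ?_
    obtain rfl := Finset.HasAntidiagonal.mem_antidiagonal.1 hi
    rw [smul_smul, hmulπ _ _ (Finset.mem_range.1 hn)]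

/-- the idempotent polynomials `1 - (X - c)^(p-1)` -/
def idem (c : ZMod p) : k[X] := 1 - (X - Polynomial.C (c.val : k)) ^ (p - 1)

theorem zmodCast_eq (c : ZMod p) : ((c.val : ℕ) : k) = ZMod.castHom (dvd_refl p) k c := by
  haveI : NeZero p := ⟨hp.out.ne_zero⟩
  rw [ZMod.castHom_apply, ZMod.natCast_val]

theorem eval_idem (c d : ZMod p) : (idem (k := k) p c).eval (d.val : k) = if d = c then 1 else 0 := by
  simp only [idem, eval_sub, eval_one, eval_pow, eval_X, eval_C, zmodCast_eq, ← map_sub]
  split_ifs with h
  · subst h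
    rw [sub_self, map_zero, zero_pow (by have := hp.out.two_le; omega), sub_zero]
  · rw [← map_pow, ZMod.pow_card_sub_one_eq_one (sub_ne_zero.2 h), map_one, sub_self]

theorem mul_idem (c : ZMod p) :
    (X - Polynomial.C (c.val : k)) * idem (k := k) p c = X - X ^ p := by
  rw [idem, mul_sub, mul_one, ← pow_succ', show p - 1 + 1 = p by have := hp.out.two_le; omega,
    sub_pow_char, ← map_pow, zmodCast_eq, ← map_pow, ZMod.pow_card]
  ring

theorem sum_idem : ∑ c : ZMod p, idem (k := k) p c = 1 := by
  classical
  have hinj : Function.Injective (fun d : ZMod p => (d.val : k)) := fun a b h => by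
    simp only [zmodCast_eq] at h
    exact (ZMod.castHom (dvd_refl p) k).injective h
  rw [← sub_eq_zero]
  apply Polynomial.eq_zero_of_natDegree_lt_card_of_eval_eq_zero _ hinj
  · intro d
    simp only [eval_sub, eval_finsetSum, eval_one, eval_idem, Finset.sum_ite_eq, Finset.mem_univ, if_true,
      sub_self]
  · rw [ZMod.card]
    refine lt_of_le_of_lt (b := p - 1) ?_ (by have := hp.out.two_le; omega)
    refine (natDegree_sub_le _ _).trans (max_le (natDegree_sum_le_of_forall_le _ _ fun c _ => ?_) (by simp))
    refine (natDegree_sub_le _ _).trans (max_le (by simp) (natDegree_pow_le.trans ?_))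
    rw [natDegree_X_sub_C, mul_one]

section
variable {S : Type*} [Ring S] [Algebra k S]

theorem aeval_mul_of_eigen {x v : S} {t : k} (h : x * v = t • v) (P : k[X]) :
    aeval x P * v = P.eval t • v := by
  induction P using Polynomial.induction_on' with
  | add P Q hP hQ => simp only [map_add, add_mul, hP, hQ, eval_add, add_smul]
  | monomial n c =>
    simp only [aeval_monomial, eval_monomial, Algebra.algebraMap_eq_smul_one, smul_mul_assoc, one_mul]
    rw [← smul_smul]
    congr 1
    induction n with
    | zero => simp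
    | succ n ih => rw [pow_succ', mul_assoc, ih, mul_smul_comm, h, smul_smul, ← pow_succ]

theorem eigen_idem {x : S} (hx : x ^ p = x) (c : ZMod p) :
    x * aeval x (idem (k := k) p c) = (c.val : k) • aeval x (idem (k := k) p c) := by
  have h := congrArg (aeval x) (mul_idem (k := k) p c)
  simp only [map_mul, map_sub, aeval_X, aeval_C, map_pow, hx, sub_self, Algebra.algebraMap_eq_smul_one,
    sub_mul, smul_mul_assoc, one_mul, sub_eq_zero] at h
  exact h

theorem idem_mul_idem {x : S} (hx : x ^ p = x) (c d : ZMod p) :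
    aeval x (idem (k := k) p c) * aeval x (idem (k := k) p d) =
      if d = c then aeval x (idem (k := k) p d) else 0 := by
  rw [aeval_mul_of_eigen (eigen_idem p hx d), eval_idem]
  split_ifs <;> simp

theorem idem_add {x y : S} (hxy : Commute x y) (hx : x ^ p = x) (hy : y ^ p = y) (c : ZMod p) :
    aeval (x + y) (idem (k := k) p c) =
      ∑ i : ZMod p, aeval x (idem (k := k) p i) * aeval y (idem (k := k) p (c - i)) := by
  classical
  have h1 : ∀ i j : ZMod p, aeval (x + y) (idem (k := k) p c) *
      (aeval x (idem (k := k) p i) * aeval y (idem (k := k) p j)) =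
      if i + j = c then aeval x (idem (k := k) p i) * aeval y (idem (k := k) p j) else 0 := by
    intro i j
    have hxy' : Commute y (aeval x (idem (k := k) p i)) := by
      refine Polynomial.induction_on' (idem (k := k) p i) (fun P Q hP hQ => by rw [map_add]; exact hP.add_right hQ)
        (fun n a => by rw [aeval_monomial]; exact (show Commute y (algebraMap k S a) from (Algebra.commutes a y).symm).mul_right (hxy.symm.pow_right n))
    have he : (x + y) * (aeval x (idem (k := k) p i) * aeval y (idem (k := k) p j)) =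
        ((i + j).val : k) • (aeval x (idem (k := k) p i) * aeval y (idem (k := k) p j)) := by
      rw [add_mul, ← mul_assoc, eigen_idem p hx, ← mul_assoc y, hxy'.eq, mul_assoc _ y,
        eigen_idem p hy, smul_mul_assoc, mul_smul_comm, ← add_smul]
      simp only [zmodCast_eq, map_add]
    rw [aeval_mul_of_eigen he, eval_idem]
    split_ifs <;> simp
  have hsum : ∑ i : ZMod p, ∑ j : ZMod p,
      aeval x (idem (k := k) p i) * aeval y (idem (k := k) p j) = 1 := by
    rw [← Finset.sum_mul_sum, ← map_sum, ← map_sum, sum_idem, map_one, map_one, one_mul]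
  calc aeval (x + y) (idem (k := k) p c)
      = aeval (x + y) (idem (k := k) p c) *
          ∑ i : ZMod p, ∑ j : ZMod p, aeval x (idem (k := k) p i) * aeval y (idem (k := k) p j) := by
        rw [hsum, mul_one]
    _ = _ := by
        simp only [Finset.mul_sum, h1]
        refine Finset.sum_congr rfl fun i _ => ?_
        rw [Finset.sum_eq_single (c - i) (fun j _ hj => if_neg fun h => hj (eq_sub_of_add_eq' h)) (by simp)]
        rw [if_pos (add_sub_cancel i c)]

end

/-- `μ_p`. -/
theorem exists_mu [Module.Finite k A] {φ : WithConv (A →ₗ[k] k)} (hφ : IsDer φ) (hne : φ ≠ 0)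
    (h0 : φ ^ p = φ) : ∃ f : A →ₐc[k] MonoidAlgebra k (Multiplicative (ZMod p)), Function.Surjective f := by
  classical
  let π : ZMod p → C := fun c => aeval φ (idem (k := k) p c)
  have hl : left φ ^ p = left φ := by rw [left, ← map_pow, ← map_pow, h0]
  have hr : right φ ^ p = right φ := by rw [right, ← map_pow, ← map_pow, h0]
  have hLeib : ∀ c x y, π c (x * y) = ∑ i : ZMod p, π i x * π (c - i) y := fun c x y =>
    apply_mul_of_aeval_add hφ _ Finset.univ _ _ (idem_add p (commute_left_right φ φ) hl hr c) x y
  let b : ZMod p → MonoidAlgebra k (Multiplicative (ZMod p)) := fun c =>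
    MonoidAlgebra.single (Multiplicative.ofAdd c) 1
  have hcnt : ∀ c, counit (R := k) (b c) = 1 := fun c => by simp [b]
  have hsum : ∀ x, ∑ i, π i x = counit (R := k) x := fun x => by
    have h := congrArg (fun P => (aeval φ P : C) x) (sum_idem (k := k) p)
    simpa [π, WithConv.ofConv_sum] using h
  refine (exists_bialgHom b π ?_ ?_ ?_ ?_).elim fun f hf => ?_
  rotate_left 4
  · refine ⟨f, surjective_of_linearIndependent b ?_ _ ?_ f hf⟩
    · rw [eq_top_iff]
      intro y _
      induction y using MonoidAlgebra.induction_linear with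
      | zero => exact zero_mem _
      | add f g hf hg => exact add_mem (hf trivial) (hg trivial)
      | single m r =>
        rw [show MonoidAlgebra.single m r = r • b (Multiplicative.toAdd m) by simp [b]]
        exact Submodule.smul_mem _ _ (Submodule.subset_span ⟨_, rfl⟩)
    · haveI : Module.Finite k C := Module.Finite.equiv (WithConv.linearEquiv k (A →ₗ[k] k)).symm
      rw [linearIndependent_iff_card_le_finrank_span, ZMod.card]
      have hli := exists_witness p hφ hne
      have hle : Submodule.span k (Set.range fun j : Fin p => φ ^ (j : ℕ)) ≤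
          Submodule.span k (Set.range π) := by
        rw [Submodule.span_le]
        rintro _ ⟨j, rfl⟩
        have h : φ ^ (j : ℕ) = ∑ c : ZMod p, ((c.val : k) ^ (j : ℕ)) • π c := by
          calc φ ^ (j : ℕ) = aeval φ (X ^ (j : ℕ) : k[X]) * ∑ c : ZMod p, π c := by
                rw [← map_sum, sum_idem, map_one, mul_one, map_pow, aeval_X]
            _ = _ := by
                rw [Finset.mul_sum]
                refine Finset.sum_congr rfl fun c _ => ?_
                rw [aeval_mul_of_eigen (eigen_idem p h0 c), eval_pow, eval_X]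
        show φ ^ (j : ℕ) ∈ Submodule.span k (Set.range π)
        rw [h]
        exact Submodule.sum_mem _ fun c _ => Submodule.smul_mem _ _ (Submodule.subset_span ⟨c, rfl⟩)
      calc p = Module.finrank k (Submodule.span k (Set.range fun j : Fin p => φ ^ (j : ℕ))) := by
            rw [finrank_span_eq_card hli, Fintype.card_fin]
        _ ≤ _ := Submodule.finrank_mono hle
  · have hd1 : derivHom φ (1 : A) = 0 := by simpa using derivHom_leibniz hφ 1 1
    have h1' : ∀ P : k[X], (aeval φ P : C) (1 : A) = P.eval 0 := fun P => by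
      induction P using Polynomial.induction_on' with
      | add P Q hP hQ => simp [hP, hQ]
      | monomial n c =>
        simp only [aeval_monomial, eval_monomial, Algebra.algebraMap_eq_smul_one, smul_mul_assoc, one_mul,
          WithConv.ofConv_smul, LinearMap.smul_apply, smul_eq_mul]
        congr 1
        rw [← counit_derivHom, map_pow]
        rcases n with _ | n
        · simp
        · rw [pow_succ, Module.End.mul_apply, hd1, map_zero, map_zero, zero_pow n.succ_ne_zero]
    have h1 : ∀ c, π c 1 = (idem (k := k) p c).eval 0 := fun c => h1' _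
    rw [Finset.sum_eq_single 0]
    · have := eval_idem (k := k) p 0 0
      simp only [ZMod.val_zero, Nat.cast_zero, if_pos] at this
      simp [h1, this, b, MonoidAlgebra.one_def]
    · intro c _ hc
      have := eval_idem (k := k) p c 0
      simp only [ZMod.val_zero, Nat.cast_zero, if_neg (Ne.symm hc)] at this
      simp [h1, this]
    · simp
  · intro x y
    simp only [hLeib, Finset.sum_smul]
    rw [Finset.sum_comm]
    refine Finset.sum_congr rfl fun i _ => ?_
    refine Fintype.sum_equiv (Equiv.subRight i) _ _ fun c => ?_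
    simp [b, MonoidAlgebra.single_mul_single, ← ofAdd_add]
  · intro x
    simp [hcnt, hsum]
  · intro x
    refine Finset.sum_congr rfl fun i _ => ?_
    rw [Finset.sum_eq_single i]
    · have h : π i * π i = π i := by
        show aeval φ _ * aeval φ _ = _
        rw [idem_mul_idem p h0, if_pos rfl]
      rw [h]
      simp [b, MonoidAlgebra.comul_single, Algebra.TensorProduct.one_def]
    · intro j _ hj
      have h : π i * π j = 0 := by
        show aeval φ _ * aeval φ _ = _
        rw [idem_mul_idem p h0, if_neg hj]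
      rw [h]; simp
    · simp

/-- reduced: the group of points -/
theorem exists_equiv_constGrp [IsAlgClosed k] [Module.Finite k A] [IsReduced A] (ℓ : ℕ) [hℓ : Fact ℓ.Prime]
    (hA : Module.finrank k A = ℓ) : Nonempty (A ≃ₐc[k] ConstGrp.F k (Multiplicative (ZMod ℓ))) := by
  classical
  obtain ⟨d⟩ := FinHopf.exists_decomp (k := k) (A := A)
  haveI := d.pts
  haveI : Fintype (WithConv (A →ₐ[k] k)) := Fintype.ofFinite _
  let ev : A →ₗ[k] (WithConv (A →ₐ[k] k) → k) := LinearMap.pi fun g => g.ofConv.toLinearMap
  have hinj : Function.Injective ev := (injective_iff_map_eq_zero ev).2 fun x hx =>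
    (d.detect x fun g => congrFun hx (toConv g)).eq_zero
  have hli : LinearIndependent k (fun g : WithConv (A →ₐ[k] k) => g.ofConv.toLinearMap) :=
    (linearIndependent_algHom_toLinearMap k A k).comp _ WithConv.ofConv_injective
  have hcard : Nat.card (WithConv (A →ₐ[k] k)) = ℓ := by
    rw [← hA, Nat.card_eq_fintype_card]
    refine le_antisymm ?_ ?_
    · have := hli.fintype_card_le_finrank
      rwa [Module.finrank_linearMap_self] at this
    · have := LinearMap.finrank_le_finrank_of_injective hinj
      rwa [Module.finrank_pi] at this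
  haveI : NeZero ℓ := ⟨hℓ.out.ne_zero⟩
  let e : Multiplicative (ZMod ℓ) ≃* WithConv (A →ₐ[k] k) :=
    mulEquivOfPrimeCardEq (p := ℓ) (by simp) hcard
  let f : A →ₐ[k] ConstGrp.F k (Multiplicative (ZMod ℓ)) :=
    (ConstGrp.equivFun k (Multiplicative (ZMod ℓ))).symm.toAlgHom.comp (Pi.algHom k _ fun z => (e z).ofConv)
  have hf : ∀ a z, f a z = (e z).ofConv a := fun a z => rfl
  let F : A →ₐc[k] ConstGrp.F k (Multiplicative (ZMod ℓ)) :=
    BialgHom.ofAlgHom f (AlgHom.ext fun a => by
      show f a 1 = counit a
      rw [hf, map_one]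
      simp) (AlgHom.ext fun a => by
      rw [AlgHom.comp_apply, AlgHom.comp_apply, Bialgebra.comulAlgHom_apply, Bialgebra.comulAlgHom_apply,
        ConstGrp.comul_eq_sum]
      simp only [hf, map_mul, AlgHom.convMul_apply]
      generalize comul (R := k) a = z
      induction z using TensorProduct.induction_on with
      | zero => simp
      | add s t hs ht => simp only [map_add, hs, ht, add_smul, Finset.sum_add_distrib]
      | tmul s t =>
        rw [Algebra.TensorProduct.map_tmul]
        conv_lhs => rw [ConstGrp.eq_sum_smul_e (f s), ConstGrp.eq_sum_smul_e (f t)]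
        simp only [TensorProduct.sum_tmul, TensorProduct.tmul_sum, TensorProduct.smul_tmul_smul, hf]
        rw [Finset.sum_comm]
        simp
        )
  have hFinj : Function.Injective F := fun a c h => hinj (funext fun g => by
    have := congrFun h (e.symm g)
    simpa [ev, F, hf] using this)
  have hdim : Module.finrank k A = Module.finrank k (ConstGrp.F k (Multiplicative (ZMod ℓ))) := by
    rw [(ConstGrp.equivFun k (Multiplicative (ZMod ℓ))).toLinearEquiv.finrank_eq, Module.finrank_pi, hA]
    simp
  exact ⟨BialgEquiv.ofBijective F ⟨hFinj,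
    (LinearMap.injective_iff_surjective_of_finrank_eq_finrank hdim).1
      (show Function.Injective f.toLinearMap from hFinj)⟩⟩

end Groth.Agent.FinHopf.MuAlpha
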