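import Groth.Agent.FinHopf.BaseChange

/-!
The rank kills a finite locally free group scheme over a reduced ring.
-/

namespace Groth.Agent.FinHopf

open TensorProduct Module WithConv Coalgebra

universe u v

variable {R : Type u} [CommRing R] {A : Type v} [CommRing A] [HopfAlgebra R A]

lemma comul_one_tmul' (K : Type u) [CommRing K] [Algebra R K] (a : A) :
    Coalgebra.comul (R := K) ((1 : K) ⊗ₜ[R] a)
      = ∑ i ∈ (ℛ R a).index, ((1 : K) ⊗ₜ[R] (ℛ R a).left i) ⊗ₜ[K] ((1 : K) ⊗ₜ[R] (ℛ R a).right i) := by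
  have h := RingHom.congr_fun (Bialgebra.comul_includeRight (R := R) (A := K) (B := A)) a
  simp only [RingHom.coe_comp, Function.comp_apply, RingHom.coe_coe,
    Algebra.TensorProduct.includeRight_apply, Bialgebra.comulAlgHom_apply] at h
  rw [h, ← (ℛ R a).eq]
  simp [map_sum]

/-- powers of the identity commute with base change, over any base ring -/
lemma includeRight_pow' (K : Type u) [CommRing K] [Algebra R K] (m : ℕ) (a : A) :
    (1 : K) ⊗ₜ[R] ((toConv (AlgHom.id R A)) ^ m).ofConv a
      = ((toConv (AlgHom.id K (K ⊗[R] A))) ^ m).ofConv ((1 : K) ⊗ₜ[R] a) := by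
  induction m generalizing a with
  | zero =>
    simp only [pow_zero]
    show (1 : K) ⊗ₜ[R] (algebraMap R A (Coalgebra.counit a))
      = algebraMap K (K ⊗[R] A) (Coalgebra.counit ((1 : K) ⊗ₜ[R] a))
    rw [Algebra.algebraMap_eq_smul_one, Algebra.algebraMap_eq_smul_one]
    simp [TensorProduct.smul_tmul', Algebra.TensorProduct.one_def]
  | succ m ih =>
    rw [pow_succ, pow_succ]
    simp only [AlgHom.convMul_def, WithConv.ofConv_toConv, AlgHom.comp_apply,
      Bialgebra.comulAlgHom_apply, comul_one_tmul' K a]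
    conv_lhs => rw [← (ℛ R a).eq]
    simp only [map_sum, Algebra.TensorProduct.map_tmul, Algebra.TensorProduct.lmul'_apply_tmul,
      tmul_sum, AlgHom.id_apply]
    refine Finset.sum_congr rfl fun i _ => ?_
    rw [← ih, Algebra.TensorProduct.tmul_mul_tmul, one_mul]

/-- **The rank kills a finite locally free group scheme over a reduced ring.** -/
theorem pow_rank_eq_one [IsReduced R] [Module.Finite R A] [Module.Projective R A] (n : ℕ)
    (hn : ∀ p : PrimeSpectrum R, Module.rankAtStalk A p = n) :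
    (toConv (AlgHom.id R A)) ^ n = 1 := by
  apply WithConv.ofConv_injective
  ext a
  rw [← sub_eq_zero, ← Module.forall_dual_apply_eq_zero_iff R]
  intro φ
  refine IsNilpotent.eq_zero (mem_nilradical.1 ?_)
  rw [nilradical_eq_sInf, Ideal.mem_sInf]
  intro P hP
  haveI : P.IsPrime := hP
  let κ := P.ResidueField
  haveI : Module.Finite κ (κ ⊗[R] A) := inferInstance
  have hr : Module.finrank κ (κ ⊗[R] A) = n := by
    let q : PrimeSpectrum κ := ⟨⊥, Ideal.isPrime_bot⟩
    have hq : PrimeSpectrum.comap (algebraMap R κ) q = ⟨P, inferInstance⟩ := by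
      ext1
      show Ideal.comap (algebraMap R κ) ⊥ = P
      ext x
      rw [Ideal.mem_comap, Ideal.mem_bot, Ideal.algebraMap_residueField_eq_zero]
    rw [← hn ⟨P, inferInstance⟩, ← hq, ← Module.rankAtStalk_baseChange (S := κ),
      Module.rankAtStalk_eq_finrank_of_free]
    rfl
  have h1 : (1 : κ) ⊗ₜ[R] ((toConv (AlgHom.id R A)) ^ n).ofConv a
      = (1 : κ) ⊗ₜ[R] ((toConv (AlgHom.id R A)) ^ 0).ofConv a := by
    rw [includeRight_pow' κ, includeRight_pow' κ, ← hr, pow_finrank_eq_one, pow_zero]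
  have h2 := congrArg (TensorProduct.rid R κ ∘ₗ φ.lTensor κ : κ ⊗[R] A →ₗ[R] κ) h1
  simp only [LinearMap.comp_apply, LinearMap.lTensor_tmul, LinearEquiv.coe_coe,
    TensorProduct.rid_tmul, ← Algebra.algebraMap_eq_smul_one, pow_zero] at h2
  rw [← Ideal.algebraMap_residueField_eq_zero (I := P), map_sub, map_sub, h2]
  exact sub_self _

end Groth.Agent.FinHopf
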